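import Cfsg.Agent.H6.ORE.LargeOre
import Cfsg.Agent.LThreeMB.Fus
import Cfsg.Agent.H861.RCoD
import Cfsg.Agent.Characters.Clifford
import Cfsg.Agent.Characters.Linear
import Cfsg.Agent.Blocks.Knorr
import Cfsg.Agent.CharDeep.IrrEquiv
import Cfsg.Agent.H658.TwoB.TwentyThree
import Cfsg.Agent.MonsterU.AmalElts
import Cfsg.Agent.FastGrp
import Cfsg.Agent.Prune
set_option linter.all false

section
prune_inst 0x7ff0ebfb8be8b9dfffff7e3fa79ccff9f1ac2fffe6fffdcbffe06bbfcbdf4b238dc56bad8fe712fedff6e21490f87b43fffffeffe86bf87ffffd1ff41ffbffcffdf7b50951d58c341fbc2fff83f077ae6f3ffffffffffffffffffff7ffffffffffbff3feffff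

-- part: H658/TwoB/Cent
section
prune_inst 0xc00002014022000000040002220040e11900010000000000004401020149c422090420008880000000008000000100000000003000000000000004000001002080824202a308a00404000700000001000000000000000000000080000000000000c010000
set_option linter.all false
open scoped Cfsg.Agent.FastGrp

-- part: H658/TwoB/Coset
section
/-!
# The extraspecial coset lemma in the centralizer of an element of `Q` (helper658, row 2.B of S2491/S2492)

`rank_lemma2` : the linear algebra of `H6.ORE.rank_lemma` on the hyperplane `ρ^⊥`.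
-/

set_option autoImplicit false

namespace Cfsg.Agent.H658.TwoB

open Module Cfsg.Agent.H6.ORE

universe u

theorem rank_lemma2 {V : Type*} [AddCommGroup V] [Module (ZMod 2) V] [FiniteDimensional (ZMod 2) V]
    (ω : LinearMap.BilinForm (ZMod 2) V) (hnd : ω.Nondegenerate) (hs : ∀ x y, ω x y = ω y x)
    (α β β' γ : V ≃ₗ[ZMod 2] V) (hα : ∀ x y, ω (α x) (α y) = ω x y)
    (hβ' : ∀ x y, ω (β' x) (β' y) = ω x y) (hγ : ∀ x y, ω (γ x) (γ y) = ω x y)
    (e1 : ∀ x, β' (α x) = α (β x)) (e2 : ∀ x, γ (β x) = β' x)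
    {ρ : V} (hρ : ρ ≠ 0) (_hρρ : ω ρ ρ = 0) (rα : α ρ = ρ) (rβ : β ρ = ρ) (rβ' : β' ρ = ρ) (rγ : γ ρ = ρ)
    (hφ : ∀ w, ω ρ w = 0 → ∃ r₁ r₂, ω ρ r₁ = 0 ∧ ω ρ r₂ = 0 ∧ r₁ + β' r₁ + (α r₂ + γ r₂) = w)
    (hB : ∀ q₁ q₂ r₁ r₂, ω ρ q₁ = 0 → ω ρ q₂ = 0 → ω ρ r₁ = 0 → ω ρ r₂ = 0 →
      q₁ + β' q₁ + (α q₂ + γ q₂) = 0 → r₁ + β' r₁ + (α r₂ + γ r₂) = 0 →
      ω q₁ (α r₂) + ω (β' r₁) (γ q₂) = 0) :
    finrank (ZMod 2) V ≤ finrank (ZMod 2) (LinearMap.ker (γ.toLinearMap - LinearMap.id)) + 2 := by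
  classical
  have two : ∀ v : V, v + v = 0 := by
    intro v
    have : (2 : ZMod 2) • v = 0 := by
      rw [show (2 : ZMod 2) = 0 from rfl, zero_smul]
    rwa [two_smul] at this
  have cancel : ∀ {u v : V}, u + v = 0 → u = v := by
    intro u v h
    have := congrArg (fun t => t + v) h
    simpa [add_assoc, two] using this
  have c2 : ∀ c : ZMod 2, c = 0 ∨ c = 1 := by decide
  -- invariance of the hyperplane
  have iα : ∀ x, ω ρ (α x) = ω ρ x := fun x => by conv_lhs => rw [← rα]; exact hα ρ x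
  have iβ' : ∀ x, ω ρ (β' x) = ω ρ x := fun x => by conv_lhs => rw [← rβ']; exact hβ' ρ x
  have iγ : ∀ x, ω ρ (γ x) = ω ρ x := fun x => by conv_lhs => rw [← rγ]; exact hγ ρ x
  let W : Submodule (ZMod 2) V := LinearMap.ker (ω ρ)
  have hW : ∀ x, x ∈ W ↔ ω ρ x = 0 := fun x => LinearMap.mem_ker
  -- a vector orthogonal to the hyperplane
  have perp : ∀ d : V, (∀ w, ω ρ w = 0 → ω d w = 0) → ∃ c : ZMod 2, d = c • ρ := by
    intro d hd
    have h0 : ∃ v₀, ω ρ v₀ = 1 := by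
      by_contra hno
      push Not at hno
      exact hρ (hnd.1 ρ fun w => (c2 _).resolve_right (hno w))
    obtain ⟨v₀, hv₀⟩ := h0
    refine ⟨ω d v₀, ?_⟩
    have h1 : ∀ w, ω (d - (ω d v₀) • ρ) w = 0 := by
      intro w
      rw [map_sub, LinearMap.sub_apply, map_smul, LinearMap.smul_apply, smul_eq_mul]
      have h2 : ω d (w - (ω ρ w) • v₀) = 0 := by
        apply hd
        rw [map_sub, map_smul, smul_eq_mul, hv₀, mul_one, sub_self]
      rw [map_sub, map_smul, smul_eq_mul] at h2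
      linear_combination h2
    exact sub_eq_zero.1 (hnd.1 _ h1)
  -- the map φ
  let φ₀ : W × W →ₗ[ZMod 2] V :=
    (LinearMap.id + β'.toLinearMap).comp (W.subtype.comp (LinearMap.fst _ W W))
      + (α.toLinearMap + γ.toLinearMap).comp (W.subtype.comp (LinearMap.snd _ W W))
  have hφ₀ : ∀ r : W × W, φ₀ r = (r.1 : V) + β' r.1 + (α r.2 + γ r.2) := fun r => rfl
  have hφW : ∀ r : W × W, φ₀ r ∈ W := by
    intro r
    rw [hW, hφ₀, map_add, map_add, map_add, iβ', iα, iγ, (hW _).1 r.1.2, (hW _).1 r.2.2]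
    simp
  let φ : W × W →ₗ[ZMod 2] W := φ₀.codRestrict W hφW
  have hφa : ∀ r : W × W, (φ r : V) = (r.1 : V) + β' r.1 + (α r.2 + γ r.2) := fun r => rfl
  have hsurj : Function.Surjective φ := by
    rintro ⟨w, hw⟩
    obtain ⟨r₁, r₂, h1, h2, h3⟩ := hφ w ((hW w).1 hw)
    exact ⟨(⟨r₁, (hW _).2 h1⟩, ⟨r₂, (hW _).2 h2⟩), Subtype.ext h3⟩
  let F : Submodule (ZMod 2) V := LinearMap.ker (γ.toLinearMap - LinearMap.id)
  have hF : ∀ x, x ∈ F ↔ γ x = x := by
    intro x
    rw [LinearMap.mem_ker]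
    simp [sub_eq_zero]
  -- key inclusion
  have key : ∀ q ∈ LinearMap.ker φ, ∃ x, γ x = x ∧ ∃ s t : ZMod 2,
      (q.1 : V) = x + α x + s • ρ ∧ (q.2 : V) = x + β x + t • ρ := by
    intro q hq
    let ℓ : W × W →ₗ[ZMod 2] ZMod 2 :=
      ((ω q.1).comp α.toLinearMap).comp (W.subtype.comp (LinearMap.snd _ W W))
        + ((ω (γ q.2)).comp β'.toLinearMap).comp (W.subtype.comp (LinearMap.fst _ W W))
    have hℓa : ∀ r : W × W, ℓ r = ω q.1 (α r.2) + ω (γ q.2) (β' r.1) := fun r => rfl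
    have hker : ∀ r ∈ LinearMap.ker φ, (r.1 : V) + β' r.1 + (α r.2 + γ r.2) = 0 := by
      intro r hr
      have h1 : φ r = 0 := hr
      rw [← hφa, h1]
      rfl
    have hℓ : ∀ r ∈ LinearMap.ker φ, ℓ r = 0 := by
      intro r hr
      rw [hℓa, hs (γ q.2)]
      exact hB q.1 q.2 r.1 r.2 q.1.2 q.2.2 r.1.2 r.2.2 (hker q hq) (hker r hr)
    have h1 : ℓ ∈ LinearMap.range φ.dualMap := by
      rw [LinearMap.range_dualMap_eq_dualAnnihilator_ker, Submodule.mem_dualAnnihilator]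
      exact hℓ
    obtain ⟨lam, hlam⟩ := h1
    obtain ⟨lam', hlam'⟩ := LinearMap.exists_extend (p := W) lam
    obtain ⟨x, hx⟩ : ∃ x, ∀ v, ω x v = lam' v := by
      refine ⟨(ω.toDual hnd).symm lam', fun v => ?_⟩
      exact LinearMap.BilinForm.apply_toDual_symm_apply (B := ω) (hB := hnd) lam' v
    have h2 : ∀ r : W × W, ω q.1 (α r.2) + ω (γ q.2) (β' r.1) = ω x (φ r : V) := by
      intro r
      rw [hx, ← hℓa, ← hlam]
      have : lam (φ r) = (lam'.comp W.subtype) (φ r) := by rw [hlam']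
      exact this
    -- q₁
    obtain ⟨s, hs1⟩ : ∃ s : ZMod 2, (q.1 : V) - (x + α (γ.symm x)) = s • ρ := by
      apply perp
      intro w hw
      obtain ⟨w', rfl⟩ := α.surjective w
      have hw' : w' ∈ W := by rw [hW, ← iα]; exact hw
      have := h2 (0, ⟨w', hw'⟩)
      simp only [hφa, Submodule.coe_zero, map_zero, add_zero, zero_add] at this
      rw [map_sub, LinearMap.sub_apply, this]
      simp only [map_add, LinearMap.add_apply]
      rw [hα]
      have h6 := hγ (γ.symm x) w'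
      rw [LinearEquiv.apply_symm_apply] at h6
      rw [h6, sub_self]
    have hq1 : (q.1 : V) = x + α (γ.symm x) + s • ρ := by rw [← hs1]; abel
    obtain ⟨t, ht1⟩ : ∃ t : ZMod 2, γ (q.2 : V) - (x + β' x) = t • ρ := by
      apply perp
      intro w hw
      obtain ⟨w', rfl⟩ := β'.surjective w
      have hw' : w' ∈ W := by rw [hW, ← iβ']; exact hw
      have := h2 (⟨w', hw'⟩, 0)
      simp only [hφa, Submodule.coe_zero, map_zero, add_zero, zero_add] at this
      rw [map_sub, LinearMap.sub_apply, this]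
      simp only [map_add, LinearMap.add_apply]
      rw [hβ']
      ring
    have hq2 : γ (q.2 : V) = x + β' x + t • ρ := by rw [← ht1]; abel
    have rγ' : γ.symm ρ = ρ := by
      apply γ.injective
      rw [LinearEquiv.apply_symm_apply, rγ]
    have hq2' : (q.2 : V) = γ.symm x + β x + t • ρ := by
      apply γ.injective
      rw [hq2, map_add, map_add, LinearEquiv.apply_symm_apply, e2, map_smul, rγ]
    have hq0 := hker q hq
    have hfix : γ.symm x = x := by
      rw [hq2, hq2', hq1] at hq0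
      simp only [map_add, map_smul, rα, rβ'] at hq0
      rw [e1] at hq0
      have h5 : α (β (γ.symm x)) + α (β x) = 0 := by
        have e : x + α (γ.symm x) + s • ρ + (β' x + α (β (γ.symm x)) + s • ρ)
              + (α (γ.symm x) + α (β x) + t • ρ + (x + β' x + t • ρ))
            = (x + x) + (α (γ.symm x) + α (γ.symm x)) + (β' x + β' x) + (s • ρ + s • ρ) + (t • ρ + t • ρ)
              + (α (β (γ.symm x)) + α (β x)) := by abel
        rw [e] at hq0
        simpa only [two, zero_add] using hq0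
      exact β.injective (α.injective (cancel h5))
    have hfix' : γ x = x := by
      conv_lhs => rw [← hfix]
      exact LinearEquiv.apply_symm_apply γ x
    exact ⟨x, hfix', s, t, by rw [hq1, hfix], by rw [hq2', hfix]⟩
  -- dimension count
  let Ψ : F × (ZMod 2 × ZMod 2) →ₗ[ZMod 2] V × V :=
    LinearMap.prod
      ((LinearMap.id + α.toLinearMap).comp (F.subtype.comp (LinearMap.fst _ F (ZMod 2 × ZMod 2)))
        + (LinearMap.toSpanSingleton (ZMod 2) V ρ).comp
          ((LinearMap.fst _ (ZMod 2) (ZMod 2)).comp (LinearMap.snd _ F (ZMod 2 × ZMod 2))))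
      ((LinearMap.id + β.toLinearMap).comp (F.subtype.comp (LinearMap.fst _ F (ZMod 2 × ZMod 2)))
        + (LinearMap.toSpanSingleton (ZMod 2) V ρ).comp
          ((LinearMap.snd _ (ZMod 2) (ZMod 2)).comp (LinearMap.snd _ F (ZMod 2 × ZMod 2))))
  have hΨ : ∀ x, Ψ x = ((x.1 : V) + α x.1 + x.2.1 • ρ, (x.1 : V) + β x.1 + x.2.2 • ρ) := fun x => rfl
  have hρF : ρ ∈ F := (hF ρ).2 rγ
  have hk0 : 1 ≤ finrank (ZMod 2) (LinearMap.ker Ψ) := by
    have h1 : ((⟨ρ, hρF⟩, (0, 0)) : F × (ZMod 2 × ZMod 2)) ∈ LinearMap.ker Ψ := by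
      rw [LinearMap.mem_ker, hΨ]
      simp only [zero_smul, rα, rβ, two]
      rfl
    have h2 : LinearMap.ker Ψ ≠ ⊥ := by
      intro h3
      rw [h3, Submodule.mem_bot] at h1
      exact hρ (congrArg (fun t : F × (ZMod 2 × ZMod 2) => (t.1 : V)) h1)
    exact Nat.one_le_iff_ne_zero.2 fun h3 => h2 (Submodule.finrank_eq_zero.1 h3)
  have hrΨ := LinearMap.finrank_range_add_finrank_ker Ψ
  rw [Module.finrank_prod, Module.finrank_prod, Module.finrank_self] at hrΨ
  let j : W × W →ₗ[ZMod 2] V × V := LinearMap.prodMap W.subtype W.subtype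
  have hj : Function.Injective j := by
    intro a b hab
    have h1 : (a.1 : V) = b.1 := congrArg Prod.fst hab
    have h2 : (a.2 : V) = b.2 := congrArg Prod.snd hab
    exact Prod.ext (Subtype.ext h1) (Subtype.ext h2)
  have hle : (LinearMap.ker φ).map j ≤ LinearMap.range Ψ := by
    rintro _ ⟨q, hq, rfl⟩
    obtain ⟨x, hx, s, t, h1, h2⟩ := key q hq
    exact ⟨(⟨x, (hF x).2 hx⟩, (s, t)), by rw [hΨ]; exact (Prod.ext h1 h2).symm⟩
  have h1 : finrank (ZMod 2) (LinearMap.ker φ) ≤ finrank (ZMod 2) (LinearMap.range Ψ) := by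
    rw [LinearEquiv.finrank_eq (Submodule.equivMapOfInjective j hj (LinearMap.ker φ))]
    exact Submodule.finrank_mono hle
  have h2 := LinearMap.finrank_range_add_finrank_ker φ
  rw [LinearMap.range_eq_top.2 hsurj, finrank_top, Module.finrank_prod] at h2
  have h3 := LinearMap.finrank_range_add_finrank_ker (ω ρ)
  have h4 : finrank (ZMod 2) (LinearMap.range (ω ρ)) ≤ 1 := by
    have := Submodule.finrank_le (LinearMap.range (ω ρ))
    rwa [Module.finrank_self] at this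
  have h5 : finrank (ZMod 2) (LinearMap.ker (ω ρ)) = finrank (ZMod 2) W := rfl
  have h6 : finrank (ZMod 2) F = finrank (ZMod 2) (LinearMap.ker (γ.toLinearMap - LinearMap.id)) := rfl
  omega


/-- the part of `ES` which survives in the centralizer of an element of `Q` -/
structure EW {H : Type*} [Group H] (Q : Subgroup H) (z : H) : Prop where
  normal : Q.Normal
  mem : z ∈ Q
  sq : z * z = 1
  central : ∀ h : H, h * z = z * h
  comm : ∀ x ∈ Q, ∀ y ∈ Q, x * y = y * x ∨ x * y = y * x * z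

section
variable {H : Type u} [Group H] {Q : Subgroup H} {z : H}

theorem EW.mem_zpowers (h : EW Q z) {x : H} : x ∈ Subgroup.zpowers z ↔ x = 1 ∨ x = z := by
  constructor
  · rintro ⟨n, rfl⟩
    have h2 : z ^ (2 : ℤ) = 1 := by
      rw [zpow_two]; exact h.sq
    rcases Int.even_or_odd' n with ⟨k, hk | hk⟩
    · left
      show z ^ n = 1
      rw [hk, zpow_mul, h2, one_zpow]
    · right
      show z ^ n = z
      rw [hk, zpow_add, zpow_mul, h2, one_zpow, one_mul, zpow_one]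
  · rintro (rfl | rfl)
    · exact Subgroup.one_mem _
    · exact Subgroup.mem_zpowers _

theorem EW.normal_zpowers (h : EW Q z) : (Subgroup.zpowers z).Normal := by
  refine ⟨fun x hx g => ?_⟩
  rw [h.mem_zpowers] at hx ⊢
  rcases hx with rfl | rfl
  · left; simp
  · right; rw [h.central]; simp

/-- the coset lemma modulo `z` -/
theorem EW.step_mod (h : EW Q z) {a b c : H} (hfp : FPz Q z a b)
    (hc : c * (a * b * a⁻¹ * b⁻¹)⁻¹ ∈ Q) :
    ∃ q₁ ∈ Q, ∃ q₂ ∈ Q, ∃ ζ : H, (ζ = 1 ∨ ζ = z) ∧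
      c * ζ = (q₁ * a) * (q₂ * b) * (q₁ * a)⁻¹ * (q₂ * b)⁻¹ := by
  have hn := h.normal
  have hz := h.normal_zpowers
  let π : H →* H ⧸ Subgroup.zpowers z := QuotientGroup.mk' _
  have hπs : Function.Surjective π := QuotientGroup.mk'_surjective _
  have hπk : ∀ x, π x = 1 ↔ (x = 1 ∨ x = z) := by
    intro x
    rw [← h.mem_zpowers]
    exact QuotientGroup.eq_one_iff x
  have hπz : π z = 1 := (hπk z).2 (Or.inr rfl)
  have hπe : ∀ x y, π x = π y → ∃ ζ : H, (ζ = 1 ∨ ζ = z) ∧ x * ζ = y := by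
    intro x y hxy
    refine ⟨x⁻¹ * y, ?_, by group⟩
    rw [← hπk, map_mul, map_inv, hxy, inv_mul_cancel]
  have hAn : (Q.map π).Normal := hn.map π hπs
  have hAc : ∀ x ∈ Q.map π, ∀ y ∈ Q.map π, x * y = y * x := by
    rintro _ ⟨x, hx, rfl⟩ _ ⟨y, hy, rfl⟩
    rw [← map_mul, ← map_mul]
    rcases h.comm x hx y hy with e | e
    · rw [e]
    · rw [e, map_mul π (y * x) z, hπz, mul_one]
  have hAf : FP (Q.map π) (π a) (π b) := by
    rintro _ ⟨w, hw, rfl⟩
    obtain ⟨u, hu, v, hv, ζ, hζ, e⟩ := hfp w hw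
    refine ⟨π u, ⟨u, hu, rfl⟩, π v, ⟨v, hv, rfl⟩, ?_⟩
    rw [e, map_mul, (hπk ζ).2 hζ, mul_one]
    simp only [map_mul, map_inv]
  have hcA : π c * (π a * π b * (π a)⁻¹ * (π b)⁻¹)⁻¹ ∈ Q.map π := by
    refine ⟨_, hc, ?_⟩
    simp only [map_mul, map_inv]
  obtain ⟨_, ⟨q₁, h₁, rfl⟩, _, ⟨q₂, h₂, rfl⟩, e⟩ := exists_comm_of_FP hAn hAc hAf hcA
  have e' : π c = π ((q₁ * a) * (q₂ * b) * (q₁ * a)⁻¹ * (q₂ * b)⁻¹) := by
    rw [e]; simp only [map_mul, map_inv]
  obtain ⟨ζ, hζ, e''⟩ := hπe _ _ e'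
  exact ⟨q₁, h₁, q₂, h₂, ζ, hζ, e''⟩


/-- the centralizer of `ρ` -/
theorem ew_centralizer (h : ES Q z) (ρ : H) :
    EW (Q.subgroupOf (Subgroup.centralizer {ρ}))
      (⟨z, by rw [Subgroup.mem_centralizer_singleton_iff]; exact (h.central ρ).symm⟩ :
        Subgroup.centralizer ({ρ} : Set H)) where
  normal := by
    have := h.normal
    exact Subgroup.normal_subgroupOf
  mem := h.mem
  sq := Subtype.ext h.sq
  central := fun g => Subtype.ext (h.central g)
  comm := by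
    intro x hx y hy
    rcases h.comm x hx y hy with e | e
    · exact Or.inl (Subtype.ext e)
    · exact Or.inr (Subtype.ext e)

/-- `FPz` inside the centralizer of `ρ` -/
def FPr (Q : Subgroup H) (z ρ a b : H) : Prop :=
  ∀ w ∈ Q, w * ρ = ρ * w → ∃ u ∈ Q, u * ρ = ρ * u ∧ ∃ v ∈ Q, v * ρ = ρ * v ∧
    ∃ ζ : H, (ζ = 1 ∨ ζ = z) ∧ w = u * (b * u * b⁻¹)⁻¹ * (v * (a * v * a⁻¹)⁻¹) * ζ

/-- the coset lemma modulo `z`, in the centralizer of `ρ` -/
theorem step_mod_r (h : ES Q z) {ρ a b c : H} (aρ : a * ρ = ρ * a) (bρ : b * ρ = ρ * b)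
    (cρ : c * ρ = ρ * c) (hfp : FPr Q z ρ a b) (hc : c * (a * b * a⁻¹ * b⁻¹)⁻¹ ∈ Q) :
    ∃ q₁ ∈ Q, q₁ * ρ = ρ * q₁ ∧ ∃ q₂ ∈ Q, q₂ * ρ = ρ * q₂ ∧ ∃ ζ : H, (ζ = 1 ∨ ζ = z) ∧
      c * ζ = (q₁ * a) * (q₂ * b) * (q₁ * a)⁻¹ * (q₂ * b)⁻¹ := by
  have hE := ew_centralizer h ρ
  have mc : ∀ x : H, x ∈ Subgroup.centralizer ({ρ} : Set H) ↔ x * ρ = ρ * x := fun x =>
    Subgroup.mem_centralizer_singleton_iff
  have hfp' : FPz (Q.subgroupOf (Subgroup.centralizer {ρ}))
      (⟨z, by rw [Subgroup.mem_centralizer_singleton_iff]; exact (h.central ρ).symm⟩ :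
        Subgroup.centralizer ({ρ} : Set H)) ⟨a, (mc a).2 aρ⟩ ⟨b, (mc b).2 bρ⟩ := by
    intro w hw
    obtain ⟨u, hu, uρ, v, hv, vρ, ζ, hζ, e⟩ := hfp w hw ((mc w).1 w.2)
    have hζρ : ζ * ρ = ρ * ζ := by
      rcases hζ with rfl | rfl
      · simp
      · exact (h.central ρ).symm
    refine ⟨⟨u, (mc u).2 uρ⟩, hu, ⟨v, (mc v).2 vρ⟩, hv, ⟨ζ, (mc ζ).2 hζρ⟩, ?_, Subtype.ext e⟩
    rcases hζ with e1 | e1
    · exact Or.inl (Subtype.ext e1)
    · exact Or.inr (Subtype.ext e1)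
  obtain ⟨q₁, h₁, q₂, h₂, ζ, hζ, e⟩ := hE.step_mod hfp' (c := ⟨c, (mc c).2 cρ⟩) hc
  refine ⟨q₁, h₁, (mc q₁).1 q₁.2, q₂, h₂, (mc q₂).1 q₂.2, ζ, ?_, congrArg Subtype.val e⟩
  rcases hζ with e1 | e1
  · exact Or.inl (congrArg Subtype.val e1)
  · exact Or.inr (congrArg Subtype.val e1)

theorem FPr.mul_left (h : ES Q z) {ρ a b p₁ p₂ : H} (hfp : FPr Q z ρ a b) (h₁ : p₁ ∈ Q) (h₂ : p₂ ∈ Q) :
    FPr Q z ρ (p₁ * a) (p₂ * b) := by
  intro w hw hwρ
  obtain ⟨u, hu, uρ, v, hv, vρ, ζ, hζ, e⟩ := hfp w hw hwρ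
  obtain ⟨ξ, hξ, e₁⟩ := h.conj_eq h₂ (h.conj_mem hu b)
  obtain ⟨η, hη, e₂⟩ := h.conj_eq h₁ (h.conj_mem hv a)
  refine ⟨u, hu, uρ, v, hv, vρ, ξ * η * ζ, h.zz (h.zz hξ hη) hζ, ?_⟩
  have e₁' : p₂ * b * u * (p₂ * b)⁻¹ = b * u * b⁻¹ * ξ := by rw [← e₁]; group
  have e₂' : p₁ * a * v * (p₁ * a)⁻¹ = a * v * a⁻¹ * η := by rw [← e₂]; group
  rw [e₁', e₂', mul_inv_rev (b * u * b⁻¹) ξ, mul_inv_rev (a * v * a⁻¹) η, h.zi hξ, h.zi hη, e]
  have c₁ := h.zc hξ
  have c₂ := h.zc hη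
  calc u * (b * u * b⁻¹)⁻¹ * (v * (a * v * a⁻¹)⁻¹) * ζ
      = u * (b * u * b⁻¹)⁻¹ * (v * (a * v * a⁻¹)⁻¹) * (ξ * ξ⁻¹) * (η * η⁻¹) * ζ := by group
    _ = u * (b * u * b⁻¹)⁻¹ * (v * (a * v * a⁻¹)⁻¹) * (ξ * ξ) * (η * η) * ζ := by
        rw [h.zi hξ, h.zi hη]
    _ = u * (b * u * b⁻¹)⁻¹ * ((v * (a * v * a⁻¹)⁻¹) * ξ) * (ξ * η) * (η * ζ) := by group
    _ = u * (b * u * b⁻¹)⁻¹ * (ξ * (v * (a * v * a⁻¹)⁻¹)) * (η * ξ) * (η * ζ) := by
        rw [c₁ (v * (a * v * a⁻¹)⁻¹), c₁ η]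
    _ = u * ((b * u * b⁻¹)⁻¹ * ξ) * (v * ((a * v * a⁻¹)⁻¹ * η)) * (ξ * η * ζ) := by group
    _ = u * (ξ * (b * u * b⁻¹)⁻¹) * (v * (η * (a * v * a⁻¹)⁻¹)) * (ξ * η * ζ) := by
        rw [c₁ (b * u * b⁻¹)⁻¹, c₂ (a * v * a⁻¹)⁻¹]

/-- **the extraspecial coset lemma in the centralizer of an element of `Q`** -/
theorem step_r (h : ES Q z) (D : VData Q z) {ρ a b c : H} (hρ : ρ ∈ Q) (hρ1 : ρ ≠ 1) (hρz : ρ ≠ z)
    (aρ : a * ρ = ρ * a) (bρ : b * ρ = ρ * b) (cρ : c * ρ = ρ * c) (hfp : FPr Q z ρ a b)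
    (hc : c * (a * b * a⁻¹ * b⁻¹)⁻¹ ∈ Q)
    (hact : letI := D.acg; letI := D.mod
      finrank (ZMod 2) (LinearMap.ker ((D.L c).toLinearMap - LinearMap.id)) + 3 ≤
        finrank (ZMod 2) D.V) :
    ∃ q₁ ∈ Q, q₁ * ρ = ρ * q₁ ∧ ∃ q₂ ∈ Q, q₂ * ρ = ρ * q₂ ∧
      c = (q₁ * a) * (q₂ * b) * (q₁ * a)⁻¹ * (q₂ * b)⁻¹ := by
  classical
  obtain ⟨p₁, hp₁, pρ₁, p₂, hp₂, pρ₂, ζ, hζ, e⟩ := step_mod_r h aρ bρ cρ hfp hc
  rcases hζ with rfl | rfl
  · exact ⟨p₁, hp₁, pρ₁, p₂, hp₂, pρ₂, by rw [← e, mul_one]⟩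
  by_contra hno
  push Not at hno
  have hfp' : FPr Q ζ ρ (p₁ * a) (p₂ * b) := hfp.mul_left h hp₁ hp₂
  have cm : ∀ {x y : H}, x * ρ = ρ * x → y * ρ = ρ * y → (x * y) * ρ = ρ * (x * y) := by
    intro x y h1 h2
    rw [mul_assoc, h2, ← mul_assoc, h1, mul_assoc]
  have ci : ∀ {x : H}, x * ρ = ρ * x → x⁻¹ * ρ = ρ * x⁻¹ := by
    intro x h1
    have := congrArg (fun t => x⁻¹ * t * x⁻¹) h1
    simpa only [mul_assoc, _root_.mul_inv_cancel, _root_.mul_one, _root_.inv_mul_cancel_left] using this.symm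
  have a₁ρ : (p₁ * a) * ρ = ρ * (p₁ * a) := cm pρ₁ aρ
  have b₁ρ : (p₂ * b) * ρ = ρ * (p₂ * b) := cm pρ₂ bρ
  obtain ⟨a₁, ha₁⟩ : ∃ a₁, a₁ = p₁ * a := ⟨_, rfl⟩
  obtain ⟨b₁, hb₁⟩ : ∃ b₁, b₁ = p₂ * b := ⟨_, rfl⟩
  have hno' : ∀ q₁ ∈ Q, q₁ * ρ = ρ * q₁ → ∀ q₂ ∈ Q, q₂ * ρ = ρ * q₂ →
      (q₁ * a₁) * (q₂ * b₁) * (q₁ * a₁)⁻¹ * (q₂ * b₁)⁻¹ ≠ c := by
    intro q₁ h₁ r₁ q₂ h₂ r₂ e'
    refine hno (q₁ * p₁) (Q.mul_mem h₁ hp₁) (cm r₁ pρ₁) (q₂ * p₂) (Q.mul_mem h₂ hp₂) (cm r₂ pρ₂) ?_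
    rw [← e', ha₁, hb₁]; group
  rw [← ha₁, ← hb₁] at e hfp'
  rw [← ha₁] at a₁ρ
  rw [← hb₁] at b₁ρ
  obtain ⟨c₁, hc₁⟩ : ∃ c₁, c₁ = a₁ * b₁ * a₁⁻¹ * b₁⁻¹ := ⟨_, rfl⟩
  obtain ⟨g, hg⟩ : ∃ g, g = a₁ * b₁ * a₁⁻¹ := ⟨_, rfl⟩
  have gρ : g * ρ = ρ * g := by rw [hg]; exact cm (cm a₁ρ b₁ρ) (ci a₁ρ)
  have c₁ρ : c₁ * ρ = ρ * c₁ := by rw [hc₁]; exact cm (cm (cm a₁ρ b₁ρ) (ci a₁ρ)) (ci b₁ρ)
  rw [← hc₁] at e
  -- the function Φ
  let Φ : Q → Q → H := fun r₁ r₂ => r₁ * (a₁ * r₂ * a₁⁻¹) * (g * r₁ * g⁻¹)⁻¹ * (c₁ * r₂ * c₁⁻¹)⁻¹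
  have hΦ : ∀ r₁ r₂ : Q, (r₁ * a₁) * (r₂ * b₁) * (r₁ * a₁)⁻¹ * (r₂ * b₁)⁻¹ = Φ r₁ r₂ * c₁ := by
    intro r₁ r₂
    show _ = r₁ * (a₁ * r₂ * a₁⁻¹) * (g * r₁ * g⁻¹)⁻¹ * (c₁ * r₂ * c₁⁻¹)⁻¹ * c₁
    rw [hc₁, hg]; group
  have hΦ1 : ∀ r₁ r₂ : Q, (r₁ : H) * ρ = ρ * r₁ → (r₂ : H) * ρ = ρ * r₂ →
      (Φ r₁ r₂ = 1 ∨ Φ r₁ r₂ = ζ) → Φ r₁ r₂ = 1 := by
    intro r₁ r₂ s₁ s₂ h'
    rcases h' with h' | h'
    · exact h'
    · exfalso
      refine hno' r₁ r₁.2 s₁ r₂ r₂.2 s₂ ?_
      rw [hΦ, h', ← e, h.central c, ← mul_assoc, h.sq, one_mul]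
  let _ := D.acg
  let _ := D.mod
  have hfin := D.fin
  have : FiniteDimensional (ZMod 2) D.V := Module.Finite.of_finite
  -- conjugation inside Q
  let K : H → Q → Q := fun g x => ⟨g * x * g⁻¹, h.conj_mem x.2 g⟩
  have hL : ∀ g x, D.L g (D.cls x) = D.cls (K g x) := fun g x => D.L_cls g x _ rfl
  have c2 : ∀ c : ZMod 2, c = 0 ∨ c = 1 := by decide
  have ceq : ∀ s t : ZMod 2, (s = 0 ↔ t = 0) → s = t := by decide
  have hs : ∀ x y, D.ω x y = D.ω y x := by
    intro u v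
    obtain ⟨x, rfl⟩ := D.surj u
    obtain ⟨y, rfl⟩ := D.surj v
    apply ceq
    rw [D.ω_cls, D.ω_cls]
    exact eq_comm
  have hnd : D.ω.Nondegenerate := by
    have key : ∀ u, (∀ v, D.ω u v = 0) → u = 0 := by
      intro u hu
      obtain ⟨x, rfl⟩ := D.surj u
      have h1 := h.nd x x.2 (fun y hy => by
        have := hu (D.cls ⟨y, hy⟩)
        rwa [D.ω_cls] at this)
      have h0 : D.cls 1 = 0 := by
        have := D.cls_mul 1 1
        rw [mul_one] at this
        have h2 : D.cls 1 + 0 = D.cls 1 + D.cls 1 := by rw [add_zero]; exact this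
        exact (add_left_cancel h2).symm
      rw [← h0, eq_comm, D.cls_eq]
      simpa only [_root_.OneMemClass.coe_one, _root_.OneMemClass.coe_eq_one, _root_.one_mul] using h1
    refine ⟨key, fun v hv => key v (fun u => by rw [hs]; exact hv u)⟩
  have hiso : ∀ g x y, D.ω (D.L g x) (D.L g y) = D.ω x y := by
    intro g u v
    obtain ⟨x, rfl⟩ := D.surj u
    obtain ⟨y, rfl⟩ := D.surj v
    apply ceq
    rw [hL, hL, D.ω_cls, D.ω_cls]
    constructor
    · intro e'
      have e'' : g * ((x : H) * y) * g⁻¹ = g * (y * x) * g⁻¹ := by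
        calc g * ((x : H) * y) * g⁻¹ = (K g x : H) * (K g y : H) := by
              show _ = (g * x * g⁻¹) * (g * y * g⁻¹); group
          _ = (K g y : H) * (K g x : H) := e'
          _ = _ := by show (g * y * g⁻¹) * (g * x * g⁻¹) = _; group
      exact mul_left_cancel (mul_right_cancel e'')
    · intro e'
      show (g * x * g⁻¹) * (g * y * g⁻¹) = (g * y * g⁻¹) * (g * x * g⁻¹)
      calc (g * (x : H) * g⁻¹) * (g * y * g⁻¹) = g * (x * y) * g⁻¹ := by group
        _ = g * (y * x) * g⁻¹ := by rw [e']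
        _ = _ := by group
  have hLm : ∀ g k l, (∀ x : H, g * (k * x * k⁻¹) * g⁻¹ = l * x * l⁻¹) →
      ∀ v, D.L g (D.L k v) = D.L l v := by
    intro g k l hk v
    obtain ⟨x, rfl⟩ := D.surj v
    rw [hL, hL, hL]
    congr 1
    exact Subtype.ext (hk x)
  have hsum : ∀ r₁ r₂ : Q, ∀ h' : Φ r₁ r₂ ∈ Q,
      D.cls ⟨Φ r₁ r₂, h'⟩ = D.cls r₁ + D.L g (D.cls r₁)
        + (D.L a₁ (D.cls r₂) + D.L c₁ (D.cls r₂)) := by
    intro r₁ r₂ h'
    have hinv : ∀ x : Q, D.cls x⁻¹ = D.cls x := by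
      intro x
      rw [D.cls_eq]
      rcases h.pow x x.2 with e' | e'
      · left
        exact (inv_eq_of_mul_eq_one_right e').symm
      · right
        have : (x : H)⁻¹ * x * x = (x : H)⁻¹ * ζ := by rw [mul_assoc, e']
        simpa only [_root_.InvMemClass.coe_inv, _root_.inv_mul_cancel, _root_.one_mul] using this
    have e1 : (⟨Φ r₁ r₂, h'⟩ : Q) = r₁ * K a₁ r₂ * (K g r₁)⁻¹ * (K c₁ r₂)⁻¹ := Subtype.ext rfl
    rw [e1, D.cls_mul, D.cls_mul, D.cls_mul, hinv, hinv, hL, hL, hL]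
    abel
  have hmem : ∀ r₁ r₂ : Q, Φ r₁ r₂ ∈ Q := by
    intro r₁ r₂
    exact (r₁ * K a₁ r₂ * (K g r₁)⁻¹ * (K c₁ r₂)⁻¹).2
  have hone : ∀ r₁ r₂ : Q, (r₁ : H) * ρ = ρ * r₁ → (r₂ : H) * ρ = ρ * r₂ →
      D.cls r₁ + D.L g (D.cls r₁)
        + (D.L a₁ (D.cls r₂) + D.L c₁ (D.cls r₂)) = 0 → Φ r₁ r₂ = 1 := by
    intro r₁ r₂ s₁ s₂ h0
    apply hΦ1 r₁ r₂ s₁ s₂
    rw [← hsum r₁ r₂ (hmem r₁ r₂)] at h0
    have h00 : D.cls 1 = 0 := by
      have := D.cls_mul 1 1
      rw [mul_one] at this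
      have h2 : D.cls 1 + 0 = D.cls 1 + D.cls 1 := by rw [add_zero]; exact this
      exact (add_left_cancel h2).symm
    rw [← h00, eq_comm, D.cls_eq] at h0
    simpa using h0
  have hρω : ∀ x : Q, D.ω (D.cls ⟨ρ, hρ⟩) (D.cls x) = 0 ↔ (x : H) * ρ = ρ * x := by
    intro x
    rw [D.ω_cls]
    exact eq_comm
  have hρL : ∀ k : H, k * ρ = ρ * k → D.L k (D.cls ⟨ρ, hρ⟩) = D.cls ⟨ρ, hρ⟩ := by
    intro k hk
    rw [hL]
    congr 1
    apply Subtype.ext
    show k * ρ * k⁻¹ = ρ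
    rw [hk, mul_inv_cancel_right]
  have h00 : D.cls 1 = 0 := by
    have := D.cls_mul 1 1
    rw [mul_one] at this
    have h2 : D.cls 1 + 0 = D.cls 1 + D.cls 1 := by rw [add_zero]; exact this
    exact (add_left_cancel h2).symm
  have hγ := rank_lemma2 D.ω hnd hs (D.L a₁) (D.L b₁) (D.L g) (D.L c₁) (hiso a₁) (hiso g) (hiso c₁)
    (fun x => (hLm g a₁ (a₁ * b₁) (fun x => by rw [hg]; group) x).trans
      (hLm a₁ b₁ (a₁ * b₁) (fun x => by group) x).symm)
    (fun x => hLm c₁ b₁ g (fun x => by rw [hc₁, hg]; group) x)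
    (ρ := D.cls ⟨ρ, hρ⟩)
    (by
      rw [← h00]
      intro h1
      rw [eq_comm, D.cls_eq] at h1
      rcases h1 with h1 | h1
      · exact hρ1 h1
      · exact hρz (by simpa using h1))
    ((hρω ⟨ρ, hρ⟩).2 rfl) (hρL a₁ a₁ρ) (hρL b₁ b₁ρ) (hρL g gρ) (hρL c₁ c₁ρ)
    (by
      intro w hwρ
      obtain ⟨y, rfl⟩ := D.surj w
      obtain ⟨q₁, h₁, s₁, q₂, h₂, s₂, ξ, hξ, e'⟩ := step_mod_r h (a := a₁) (b := b₁) (c := y * c₁)
        a₁ρ b₁ρ (cm ((hρω y).1 hwρ) c₁ρ) hfp'
        (by rw [← hc₁, mul_assoc, mul_inv_cancel, mul_one]; exact y.2)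
      refine ⟨D.cls ⟨q₁, h₁⟩, D.cls ⟨q₂, h₂⟩, (hρω ⟨q₁, h₁⟩).2 s₁, (hρω ⟨q₂, h₂⟩).2 s₂, ?_⟩
      rw [← hsum ⟨q₁, h₁⟩ ⟨q₂, h₂⟩ (hmem _ _)]
      have e'' : Φ ⟨q₁, h₁⟩ ⟨q₂, h₂⟩ * c₁ = y * ξ * c₁ := by
        rw [← hΦ]
        show q₁ * a₁ * (q₂ * b₁) * (q₁ * a₁)⁻¹ * (q₂ * b₁)⁻¹ = _
        rw [← e', mul_assoc, mul_assoc, h.zc hξ c₁]
      have e3 : Φ ⟨q₁, h₁⟩ ⟨q₂, h₂⟩ = y * ξ := mul_right_cancel e''
      rw [eq_comm, D.cls_eq]
      show Φ ⟨q₁, h₁⟩ ⟨q₂, h₂⟩ = y ∨ Φ ⟨q₁, h₁⟩ ⟨q₂, h₂⟩ = y * ζ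
      rw [e3]
      rcases hξ with rfl | rfl
      · left; simp
      · right; rfl)
    (by
      intro u₁ u₂ v₁ v₂ su₁ su₂ sv₁ sv₂ hu hv
      obtain ⟨r₁, rfl⟩ := D.surj u₁
      obtain ⟨r₂, rfl⟩ := D.surj u₂
      obtain ⟨q₁, rfl⟩ := D.surj v₁
      obtain ⟨q₂, rfl⟩ := D.surj v₂
      rw [hρω] at su₁ su₂ sv₁ sv₂
      have o1 := hone r₁ r₂ su₁ su₂ hu
      have o2 := hone q₁ q₂ sv₁ sv₂ hv
      have o3 : Φ (q₁ * r₁) (q₂ * r₂) = 1 := by
        apply hone (q₁ * r₁) (q₂ * r₂) (cm sv₁ su₁) (cm sv₂ su₂)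
        rw [D.cls_mul, D.cls_mul]
        simp only [map_add]
        have : (D.cls q₁ + D.cls r₁) + (D.L g (D.cls q₁) + D.L g (D.cls r₁))
            + (D.L a₁ (D.cls q₂) + D.L a₁ (D.cls r₂) + (D.L c₁ (D.cls q₂) + D.L c₁ (D.cls r₂)))
            = (D.cls q₁ + D.L g (D.cls q₁) + (D.L a₁ (D.cls q₂) + D.L c₁ (D.cls q₂)))
            + (D.cls r₁ + D.L g (D.cls r₁) + (D.L a₁ (D.cls r₂) + D.L c₁ (D.cls r₂))) := by abel
        rw [this, hu, hv, add_zero]
      -- x = q, y = r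
      obtain ⟨x₁, hx₁⟩ : ∃ t, t = (q₁ : H) := ⟨_, rfl⟩
      obtain ⟨x₂, hx₂⟩ : ∃ t, t = a₁ * (q₂ : H) * a₁⁻¹ := ⟨_, rfl⟩
      obtain ⟨x₃, hx₃⟩ : ∃ t, t = g * (q₁ : H) * g⁻¹ := ⟨_, rfl⟩
      obtain ⟨x₄, hx₄⟩ : ∃ t, t = c₁ * (q₂ : H) * c₁⁻¹ := ⟨_, rfl⟩
      obtain ⟨y₁, hy₁⟩ : ∃ t, t = (r₁ : H) := ⟨_, rfl⟩
      obtain ⟨y₂, hy₂⟩ : ∃ t, t = a₁ * (r₂ : H) * a₁⁻¹ := ⟨_, rfl⟩
      obtain ⟨y₃, hy₃⟩ : ∃ t, t = g * (r₁ : H) * g⁻¹ := ⟨_, rfl⟩
      obtain ⟨y₄, hy₄⟩ : ∃ t, t = c₁ * (r₂ : H) * c₁⁻¹ := ⟨_, rfl⟩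
      have p1 : y₁ * y₂ = y₄ * y₃ := by
        have : y₁ * y₂ * y₃⁻¹ * y₄⁻¹ = 1 := by rw [hy₁, hy₂, hy₃, hy₄]; exact o1
        calc y₁ * y₂ = (y₁ * y₂ * y₃⁻¹ * y₄⁻¹) * y₄ * y₃ := by group
          _ = _ := by rw [this, one_mul]
      have p2 : x₁ * x₂ = x₄ * x₃ := by
        have : x₁ * x₂ * x₃⁻¹ * x₄⁻¹ = 1 := by rw [hx₁, hx₂, hx₃, hx₄]; exact o2
        calc x₁ * x₂ = (x₁ * x₂ * x₃⁻¹ * x₄⁻¹) * x₄ * x₃ := by group
          _ = _ := by rw [this, one_mul]
      have p3 : x₁ * y₁ * (x₂ * y₂) = (x₄ * y₄) * (x₃ * y₃) := by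
        have : x₁ * y₁ * (x₂ * y₂) * (x₃ * y₃)⁻¹ * (x₄ * y₄)⁻¹ = 1 := by
          have o4 : ((q₁ * r₁ : Q) : H) * (a₁ * ((q₂ * r₂ : Q) : H) * a₁⁻¹)
            * (g * ((q₁ * r₁ : Q) : H) * g⁻¹)⁻¹ * (c₁ * ((q₂ * r₂ : Q) : H) * c₁⁻¹)⁻¹ = 1 := o3
          rw [Subgroup.coe_mul, Subgroup.coe_mul] at o4
          rw [hx₁, hx₂, hx₃, hx₄, hy₁, hy₂, hy₃, hy₄, ← o4]; group
        calc x₁ * y₁ * (x₂ * y₂)
            = (x₁ * y₁ * (x₂ * y₂) * (x₃ * y₃)⁻¹ * (x₄ * y₄)⁻¹) * (x₄ * y₄) * (x₃ * y₃) := by group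
          _ = _ := by rw [this, one_mul]
      have m1 : y₁ ∈ Q := by rw [hy₁]; exact r₁.2
      have m2 : x₂ ∈ Q := by rw [hx₂]; exact h.conj_mem q₂.2 a₁
      have m3 : y₄ ∈ Q := by rw [hy₄]; exact h.conj_mem r₂.2 c₁
      have m4 : x₃ ∈ Q := by rw [hx₃]; exact h.conj_mem q₁.2 g
      -- y₁ x₂ vs y₄ x₃
      have cc : (y₁ * x₂ = x₂ * y₁) ↔ (y₄ * x₃ = x₃ * y₄) := by
        constructor
        · intro e1
          have : x₁ * (y₁ * x₂) * y₂ = x₄ * (y₄ * x₃) * y₃ := by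
            calc x₁ * (y₁ * x₂) * y₂ = x₁ * y₁ * (x₂ * y₂) := by group
              _ = (x₄ * y₄) * (x₃ * y₃) := p3
              _ = _ := by group
          have e2 : x₄ * (y₄ * x₃) * y₃ = x₄ * (x₃ * y₄) * y₃ := by
            rw [← this, e1]
            calc x₁ * (x₂ * y₁) * y₂ = (x₁ * x₂) * (y₁ * y₂) := by group
              _ = (x₄ * x₃) * (y₄ * y₃) := by rw [p1, p2]
              _ = _ := by group
          exact mul_left_cancel (mul_right_cancel e2)
        · intro e1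
          have : x₁ * (y₁ * x₂) * y₂ = x₄ * (y₄ * x₃) * y₃ := by
            calc x₁ * (y₁ * x₂) * y₂ = x₁ * y₁ * (x₂ * y₂) := by group
              _ = (x₄ * y₄) * (x₃ * y₃) := p3
              _ = _ := by group
          have e2 : x₁ * (y₁ * x₂) * y₂ = x₁ * (x₂ * y₁) * y₂ := by
            rw [this, e1]
            calc x₄ * (x₃ * y₄) * y₃ = (x₄ * x₃) * (y₄ * y₃) := by group
              _ = (x₁ * x₂) * (y₁ * y₂) := by rw [p1, p2]
              _ = _ := by group
          exact mul_left_cancel (mul_right_cancel e2)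
      have e5 : D.ω (D.cls r₁) (D.L a₁ (D.cls q₂)) = D.ω (D.L g (D.cls q₁)) (D.L c₁ (D.cls r₂)) := by
        apply ceq
        rw [hL, hL, hL, D.ω_cls, D.ω_cls]
        have t1 : ((K a₁ q₂ : Q) : H) = x₂ := hx₂.symm
        have t2 : ((K g q₁ : Q) : H) = x₃ := hx₃.symm
        have t3 : ((K c₁ r₂ : Q) : H) = y₄ := hy₄.symm
        rw [t1, t2, t3, ← hy₁, cc]
        exact eq_comm
      rw [e5]
      rcases c2 (D.ω (D.L g (D.cls q₁)) (D.L c₁ (D.cls r₂))) with h0 | h0
      · rw [h0]; rfl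
      · rw [h0]; rfl)
  -- conclusion
  have hLc : D.L c₁ = D.L c := by
    apply LinearEquiv.ext
    intro v
    obtain ⟨x, rfl⟩ := D.surj v
    rw [hL, hL]
    congr 1
    apply Subtype.ext
    show c₁ * x * c₁⁻¹ = c * x * c⁻¹
    rw [← e]
    calc c * ζ * x * (c * ζ)⁻¹ = c * (ζ * x * ζ⁻¹) * c⁻¹ := by group
      _ = c * x * c⁻¹ := by rw [← h.central x]; group
  rw [hLc] at hγ
  have hact' : finrank (ZMod 2) (LinearMap.ker ((D.L c).toLinearMap - LinearMap.id)) + 3 ≤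
        finrank (ZMod 2) D.V := hact
  omega

end

end Cfsg.Agent.H658.TwoB
end

-- part: H658/TwoB/Cent
section
/-!
# Commutators in `C(z) ∩ C(u)`, `u ∈ Q` of type 2 (helper658, row 2.B of S2491/S2492)

`cent_out` : an element of `C(z) ∩ C(u)` outside of `Q` is a commutator of elements of `C(z) ∩ C(u)`.
-/

set_option autoImplicit false

namespace Cfsg.Agent.H658.TwoB

open Cfsg Module
open Cfsg.Agent.H6.ORE
open Cfsg.Agent.MonsterU.Ch (Chart)
open Cfsg.Agent.MonsterU.Lam2 (L2 IsType bf qf qf_add bf_add_left bf_add_right bf_comm bf_zero_left bf_zero_right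
  bf_nondeg bf_smul1 bf_self qf_smul1 card_L2)
open Cfsg.Agent.LThreeMB (bL bL_apply fr)
open Cfsg.Spor (Co1)

/-- the data of an element of `Co1` fixing `v` -/
def F23h (v : L2) (l : Co1) : Prop := ∃ a b : Co1, a • v = v ∧ b • v = v ∧ l = a * b * a⁻¹ * b⁻¹ ∧
  (∃ y ∈ Subgroup.closure ({a, b} : Set Co1), orderOf y = 23) ∧
  ∃ h ∈ Subgroup.closure ({a, b} : Set Co1), ∃ w : L2, w + h • w = v

/-- the action as a linear equivalence -/
noncomputable def act1 (s : Co1) : L2 ≃ₗ[ZMod 2] L2 :=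
  (DistribMulAction.toAddEquiv L2 s).toLinearEquiv (fun c x => ZMod.map_smul _ c x)

theorem act1_apply (s : Co1) (x : L2) : act1 s x = s • x := rfl


/-! ### `FPr` from fixed points -/

section

universe u

variable {H : Type u} [Group H] {Q : Subgroup H} {z : H}

theorem perp_of_hyper {V : Type*} [AddCommGroup V] [Module (ZMod 2) V]
    (ω : LinearMap.BilinForm (ZMod 2) V) (hnd : ∀ u, (∀ v, ω u v = 0) → u = 0)
    {ρ : V} (hρ : ρ ≠ 0) {d : V} (hd : ∀ w, ω ρ w = 0 → ω d w = 0) : d = 0 ∨ d = ρ := by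
  have c2 : ∀ c : ZMod 2, c = 0 ∨ c = 1 := by decide
  have h0 : ∃ v₀, ω ρ v₀ = 1 := by
    by_contra hno
    push Not at hno
    exact hρ (hnd ρ fun w => (c2 _).resolve_right (hno w))
  obtain ⟨v₀, hv₀⟩ := h0
  have h1 : ∀ w, ω (d - (ω d v₀) • ρ) w = 0 := by
    intro w
    rw [map_sub, LinearMap.sub_apply, map_smul, LinearMap.smul_apply, smul_eq_mul]
    have h2 : ω d (w - (ω ρ w) • v₀) = 0 := by
      apply hd
      rw [map_sub, map_smul, smul_eq_mul, hv₀, mul_one, sub_self]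
    rw [map_sub, map_smul, smul_eq_mul] at h2
    linear_combination h2
  have h2 := sub_eq_zero.1 (hnd _ h1)
  rcases c2 (ω d v₀) with h3 | h3
  · left; rw [h2, h3, zero_smul]
  · right; rw [h2, h3, one_smul]

theorem FPr.of_fix (h : ES Q z) (D : VData Q z) {ρ a b : H} (hρ : ρ ∈ Q) (hρ1 : ρ ≠ 1) (hρz : ρ ≠ z)
    (aρ : a * ρ = ρ * a) (bρ : b * ρ = ρ * b)
    (hfix : letI := D.acg; ∀ v : D.V, (D.L a v = v ∨ D.L a v = v + D.cls ⟨ρ, hρ⟩) →
      (D.L b v = v ∨ D.L b v = v + D.cls ⟨ρ, hρ⟩) → v = 0 ∨ v = D.cls ⟨ρ, hρ⟩) : FPr Q z ρ a b := by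
  classical
  let _ := D.acg
  let _ := D.mod
  have hfin := D.fin
  have : FiniteDimensional (ZMod 2) D.V := Module.Finite.of_finite
  let K : H → Q → Q := fun g x => ⟨g * x * g⁻¹, h.conj_mem x.2 g⟩
  have hL : ∀ g x, D.L g (D.cls x) = D.cls (K g x) := fun g x => D.L_cls g x _ rfl
  have ceq : ∀ s t : ZMod 2, (s = 0 ↔ t = 0) → s = t := by decide
  have h0 : D.cls 1 = 0 := by
    have := D.cls_mul 1 1
    rw [mul_one] at this
    have h2 : D.cls 1 + 0 = D.cls 1 + D.cls 1 := by rw [add_zero]; exact this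
    exact (add_left_cancel h2).symm
  have two : ∀ x : D.V, x + x = 0 := by
    intro x
    have : (2 : ZMod 2) • x = 0 := by
      rw [show (2 : ZMod 2) = 0 from rfl, zero_smul]
    rwa [two_smul] at this
  have hinv : ∀ x : Q, D.cls x⁻¹ = D.cls x := by
    intro x
    rw [D.cls_eq]
    rcases h.pow x x.2 with e' | e'
    · left
      exact (inv_eq_of_mul_eq_one_right e').symm
    · right
      have : (x : H)⁻¹ * x * x = (x : H)⁻¹ * z := by rw [mul_assoc, e']
      simpa only [_root_.InvMemClass.coe_inv, _root_.inv_mul_cancel, _root_.one_mul] using this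
  have hs : ∀ x y, D.ω x y = D.ω y x := by
    intro u v
    obtain ⟨x, rfl⟩ := D.surj u
    obtain ⟨y, rfl⟩ := D.surj v
    apply ceq
    rw [D.ω_cls, D.ω_cls]
    exact eq_comm
  have key : ∀ u, (∀ v, D.ω u v = 0) → u = 0 := by
    intro u hu
    obtain ⟨x, rfl⟩ := D.surj u
    have h1 := h.nd x x.2 (fun y hy => by
      have := hu (D.cls ⟨y, hy⟩)
      rwa [D.ω_cls] at this)
    rw [← h0, eq_comm, D.cls_eq]
    simpa only [_root_.OneMemClass.coe_one, _root_.OneMemClass.coe_eq_one, _root_.one_mul] using h1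
  have hiso : ∀ g x y, D.ω (D.L g x) (D.L g y) = D.ω x y := by
    intro g u v
    obtain ⟨x, rfl⟩ := D.surj u
    obtain ⟨y, rfl⟩ := D.surj v
    apply ceq
    rw [hL, hL, D.ω_cls, D.ω_cls]
    constructor
    · intro e'
      have e'' : g * ((x : H) * y) * g⁻¹ = g * (y * x) * g⁻¹ := by
        calc g * ((x : H) * y) * g⁻¹ = (K g x : H) * (K g y : H) := by
              show _ = (g * x * g⁻¹) * (g * y * g⁻¹); group
          _ = (K g y : H) * (K g x : H) := e'
          _ = _ := by show (g * y * g⁻¹) * (g * x * g⁻¹) = _; group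
      exact mul_left_cancel (mul_right_cancel e'')
    · intro e'
      show (g * x * g⁻¹) * (g * y * g⁻¹) = (g * y * g⁻¹) * (g * x * g⁻¹)
      calc (g * (x : H) * g⁻¹) * (g * y * g⁻¹) = g * (x * y) * g⁻¹ := by group
        _ = g * (y * x) * g⁻¹ := by rw [e']
        _ = _ := by group
  -- every functional is given by the form
  have hrep : ∀ f : D.V →ₗ[ZMod 2] ZMod 2, ∃ u, ∀ w, f w = D.ω u w := by
    have hinj : Function.Injective D.ω := by
      rw [injective_iff_map_eq_zero]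
      intro u hu
      apply key
      intro v
      rw [hu]; rfl
    have hsurj : Function.Surjective D.ω := by
      have hfr : finrank (ZMod 2) D.V = finrank (ZMod 2) (D.V →ₗ[ZMod 2] ZMod 2) :=
        (Subspace.dual_finrank_eq (K := ZMod 2) (V := D.V)).symm
      exact (LinearMap.injective_iff_surjective_of_finrank_eq_finrank hfr).1 hinj
    intro f
    obtain ⟨u, hu⟩ := hsurj f
    exact ⟨u, fun w => by rw [← hu]⟩
  obtain ⟨r, hr⟩ : ∃ r, r = D.cls ⟨ρ, hρ⟩ := ⟨_, rfl⟩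
  rw [← hr] at hfix
  have hr0 : r ≠ 0 := by
    rw [← h0, hr]
    intro h1
    rw [eq_comm, D.cls_eq] at h1
    rcases h1 with h1 | h1
    · exact hρ1 h1
    · exact hρz (by simpa using h1)
  have hrω : ∀ x : Q, D.ω r (D.cls x) = 0 ↔ (x : H) * ρ = ρ * x := by
    intro x
    rw [hr, D.ω_cls]
    exact eq_comm
  have hrL : ∀ k : H, k * ρ = ρ * k → D.L k r = r := by
    intro k hk
    rw [hr, hL]
    congr 1
    apply Subtype.ext
    show k * ρ * k⁻¹ = ρ
    rw [hk, mul_inv_cancel_right]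
  let W : Submodule (ZMod 2) D.V := LinearMap.ker (D.ω r)
  have hW : ∀ x, x ∈ W ↔ D.ω r x = 0 := fun x => LinearMap.mem_ker
  let La : D.V →ₗ[ZMod 2] D.V := LinearMap.id + (D.L a).toLinearMap
  let Lb : D.V →ₗ[ZMod 2] D.V := LinearMap.id + (D.L b).toLinearMap
  have hLa : ∀ v, La v = v + D.L a v := fun _ => rfl
  have hLb : ∀ v, Lb v = v + D.L b v := fun _ => rfl
  have hT : W ≤ W.map La ⊔ W.map Lb := by
    intro w hw
    by_contra hne
    obtain ⟨f, hf, hle⟩ := Submodule.exists_dual_map_eq_bot_of_notMem hne inferInstance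
    obtain ⟨u, hu⟩ := hrep f
    have hf0 : ∀ s ∈ W.map La ⊔ W.map Lb, f s = 0 := by
      intro s hs'
      have : f s ∈ (W.map La ⊔ W.map Lb).map f := ⟨s, hs', rfl⟩
      rwa [hle, Submodule.mem_bot] at this
    have fixed : ∀ g : H, g * ρ = ρ * g → (∀ w ∈ W, f (w + D.L g w) = 0) → D.L g u = u ∨ D.L g u = u + r := by
      intro g hg hgw
      have h1 : ∀ w, D.ω r w = 0 → D.ω (D.L g u + u) w = 0 := by
        intro w hw
        obtain ⟨w, rfl⟩ := (D.L g).surjective w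
        have hw' : D.ω r w = 0 := by rw [← hiso g, hrL g hg]; exact hw
        rw [map_add, LinearMap.add_apply, hiso, ← hu, ← hu, ← map_add]
        exact hgw w hw'
      rcases perp_of_hyper D.ω key hr0 h1 with h2 | h2
      · left
        have h3 := congrArg (fun t => t + u) h2
        simpa [add_assoc, two] using h3
      · right
        have h3 : D.L g u + u + u = r + u := by rw [h2]
        rw [add_assoc, two, add_zero] at h3
        rw [h3, add_comm]
    have fa := fixed a aρ fun w hw => hf0 _ (Submodule.mem_sup_left ⟨w, hw, rfl⟩)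
    have fb := fixed b bρ fun w hw => hf0 _ (Submodule.mem_sup_right ⟨w, hw, rfl⟩)
    rcases hfix u fa fb with h5 | h5
    · apply hf
      rw [hu, h5, map_zero, LinearMap.zero_apply]
    · apply hf
      rw [hu, h5]
      exact hw
  intro w hw hwρ
  have hw' : D.cls ⟨w, hw⟩ ∈ W.map La ⊔ W.map Lb := hT ((hrω ⟨w, hw⟩).2 hwρ)
  rw [Submodule.mem_sup] at hw'
  obtain ⟨_, ⟨v', hv', rfl⟩, _, ⟨u', hu', rfl⟩, e⟩ := hw'
  obtain ⟨v, rfl⟩ := D.surj v'
  obtain ⟨u, rfl⟩ := D.surj u'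
  have h2 : D.cls (u * (K b u)⁻¹ * (v * (K a v)⁻¹)) = D.cls ⟨w, hw⟩ := by
    rw [D.cls_mul, D.cls_mul, D.cls_mul, hinv, hinv, ← hL, ← hL, ← e, hLa, hLb]
    abel
  rw [D.cls_eq] at h2
  have h3 : w = u * (b * u * b⁻¹)⁻¹ * (v * (a * v * a⁻¹)⁻¹) ∨
      w = u * (b * u * b⁻¹)⁻¹ * (v * (a * v * a⁻¹)⁻¹) * z := h2
  rcases h3 with h3 | h3
  · exact ⟨u, u.2, (hrω u).1 hu', v, v.2, (hrω v).1 hv', 1, Or.inl rfl, by rw [h3, mul_one]⟩
  · exact ⟨u, u.2, (hrω u).1 hu', v, v.2, (hrω v).1 hv', z, Or.inr rfl, h3⟩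

end

/-! ### the action on the lattice -/

theorem add_self' (x : L2) : x + x = 0 := Cfsg.Agent.MonsterU.Lam2.add_self x

theorem eq_of_add {x y : L2} (h : x + y = 0) : x = y := Cfsg.Agent.MonsterU.Lam2.eq_of_add_eq_zero h

/-- a type 2 vector is singular -/
theorem qf_two {v : L2} (hv : IsType 2 v) : qf v = 0 := by
  obtain ⟨w, hw, rfl⟩ := hv
  rw [Cfsg.Agent.MonsterU.Lam2.qf_cl_eq_zero, hw]
  norm_num

/-- the vector of `F23h` is orthogonal to `v` -/
theorem bf_of_add {v w : L2} {h : Co1} (hq : qf v = 0) (e : w + h • w = v) : bf v w = 0 := by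
  have h1 := qf_add w (h • w)
  rw [e, qf_smul1, hq] at h1
  have h2 : bf w (h • w) = 0 := by
    have c : ∀ a b : ZMod 2, 0 = a + a + b → b = 0 := by decide
    exact c _ _ h1
  rw [← e, bf_add_left, bf_self, zero_add, bf_comm, h2]

/-- **No invariant functionals.** -/
theorem no_functional {v x w : L2} {h : Co1} (hq : qf v = 0) (hv : h • v = v) (e : w + h • w = v)
    (hx : h • x = x ∨ h • x = x + v) : bf x v = 0 := by
  have h1 : bf x v = bf x w + bf x (h • w) := by rw [← bf_add_right, e]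
  have c : ∀ a : ZMod 2, a + a = 0 := by decide
  rcases hx with hx | hx
  · have h2 : bf x (h • w) = bf x w := by
      conv_lhs => rw [← hx]
      exact bf_smul1 h x w
    rw [h1, h2, c]
  · have h3 : x = h • x + v := by
      rw [hx, add_assoc, add_self', add_zero]
    have h2 : bf x (h • w) = bf x w + bf v w := by
      conv_lhs => rw [h3]
      rw [bf_add_left, bf_smul1]
      congr 1
      conv_lhs => rw [← hv]
      exact bf_smul1 h v w
    rw [h1, h2, bf_of_add hq e, add_zero, c]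

/-- powers of an element fixing `x` modulo `v` -/
theorem mod_closure {v x : L2} {a b : Co1} (av : a • v = v) (bv : b • v = v) (ha : a • x = x ∨ a • x = x + v)
    (hb : b • x = x ∨ b • x = x + v) {g : Co1} (hg : g ∈ Subgroup.closure ({a, b} : Set Co1)) :
    g • v = v ∧ (g • x = x ∨ g • x = x + v) := by
  induction hg using Subgroup.closure_induction with
  | mem g hg =>
    rcases hg with rfl | hg
    · exact ⟨av, ha⟩
    · rw [Set.mem_singleton_iff] at hg
      subst hg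
      exact ⟨bv, hb⟩
  | one => exact ⟨one_smul _ _, Or.inl (one_smul _ _)⟩
  | mul g k _ _ hg hk =>
    refine ⟨by rw [mul_smul, hk.1, hg.1], ?_⟩
    rcases hk.2 with h1 | h1 <;> rcases hg.2 with h2 | h2
    · left; rw [mul_smul, h1, h2]
    · right; rw [mul_smul, h1, h2]
    · right; rw [mul_smul, h1, smul_add, h2, hg.1]
    · left; rw [mul_smul, h1, smul_add, h2, hg.1, add_assoc, add_self', add_zero]
  | inv g _ hg =>
    have h1 : g⁻¹ • v = v := by rw [inv_smul_eq_iff, hg.1]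
    refine ⟨h1, ?_⟩
    rcases hg.2 with h2 | h2
    · left; rw [inv_smul_eq_iff, h2]
    · right; rw [inv_smul_eq_iff, smul_add, h2, hg.1, add_assoc, add_self', add_zero]

/-- an element of order 23 fixing `x` modulo `v` fixes `x` -/
theorem fix_of_mod {v x : L2} {y : Co1} (hy : orderOf y = 23) (hv : y • v = v) (hx : y • x = x ∨ y • x = x + v) :
    y • x = x := by
  rcases hx with hx | hx
  · exact hx
  · have h1 : y ^ 2 • x = x := by
      rw [pow_two, mul_smul, hx, smul_add, hx, hv, add_assoc, add_self', add_zero]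
    have h2 : y ^ 22 • x = x := by
      have h3 : y ^ 2 ∈ MulAction.stabilizer Co1 x := h1
      have h4 := Subgroup.pow_mem _ h3 11
      rw [← pow_mul] at h4
      exact h4
    have h5 : y ^ 23 • x = x := by rw [← hy, pow_orderOf_eq_one, one_smul]
    rw [pow_succ', mul_smul, h2] at h5
    exact h5

open Cfsg.Agent.H861.RCoA in
open Cfsg.Agent.MonsterU.CoFrame Cfsg.Agent.MonsterU.CoFrameL2 Cfsg.Agent.MonsterU.CoFrameIrr
  Cfsg.Agent.MonsterU.Lam2 Cfsg.Agent.SporadicStructure.Co0Base in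
/-- the fixed points of an element of order 23 -/
theorem fix23 {v x : L2} {y : Co1} (hy : orderOf y = 23) (hv2 : IsType 2 v) (hv : y • v = v) (hx : y • x = x)
    (hb : bf x v = 0) : x = 0 ∨ x = v := by
  obtain ⟨g, n, e⟩ := exists_conj hy
  have hX : ∀ t : L2, y • t = t → X • (g • t) = g • t := by
    intro t ht
    have h1 : y ^ n • t = t := by
      have h3 : y ∈ MulAction.stabilizer Co1 t := ht
      exact Subgroup.pow_mem _ h3 n
    rw [← e, mul_smul, mul_smul, inv_smul_smul, h1]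
  have h1 := fixed_X (hX v hv)
  have h2 := fixed_X (hX x hx)
  have hgv : IsType 2 (g • v) := hv2.smul1 g
  have hgv' : g • v = cl u0 := by
    rcases h1 with h | h | h | h
    · rw [h] at hgv
      exact absurd hgv Cfsg.Agent.MonsterU.InvPair.not_zero_two
    · rw [h] at hgv
      exact absurd hgv (fun h' => Cfsg.Agent.MonsterU.InvPair.not_two_four h'
        Cfsg.Agent.MonsterU.AmalSideOf.type_f0)
    · exact h
    · exfalso
      have h3 := qf_two hgv
      rw [h, qf_cl_eq_zero, norm_u0'] at h3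
      norm_num at h3
  have hb' : bf (g • x) (cl u0) = 0 := by rw [← hgv', bf_smul1, hb]
  have h10 : bf (cl u0) f0 = 1 := Cfsg.Agent.MonsterU.AmalElts.bf_u0
  rcases h2 with h | h | h | h
  · left; exact (smul_eq_zero_iff_eq g).1 h
  · exfalso
    rw [h, bf_comm, h10] at hb'
    exact one_ne_zero hb'
  · right
    rw [← hgv'] at h
    exact smul_left_cancel g h
  · exfalso
    have h11 : cl (u0 + e8 none) = cl u0 + f0 := map_add _ _ _
    rw [h, h11, bf_add_left, bf_self, zero_add, bf_comm, h10] at hb'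
    exact one_ne_zero hb'

section

variable {G : Type} [Group G] {Q : Subgroup G} {z : G} {eta : G → L2}
  {pi : Subgroup.centralizer ({z} : Set G) →* Co1}

/-- the data of the chart -/
noncomputable def vdata (h : Chart Q z eta pi) : VData (Q.subgroupOf (CZ z)) (zC z) where
  V := L2
  acg := inferInstance
  mod := inferInstance
  fin := inferInstance
  cls x := eta ((x : CZ z) : G)
  surj v := by
    obtain ⟨x, hx, e⟩ := h.eta_surj v
    exact ⟨⟨⟨x, Subgroup.mem_centralizer_singleton_iff.2 (h.large.comm_z x hx)⟩, hx⟩, e⟩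
  cls_mul x y := h.eta_mul _ x.2 _ y.2
  cls_eq x y := by
    have h1 : eta ((y : CZ z) : G) = eta ((x : CZ z) : G) ↔
      ((y : CZ z) : G) = ((x : CZ z) : G) ∨ ((y : CZ z) : G) = ((x : CZ z) : G) * z := h.eta_eq y.2 x.2
    rw [eq_comm, h1, Subtype.ext_iff, Subtype.ext_iff]
    rfl
  ω := bL
  ω_cls x y := by
    have h1 : ((x : CZ z) : G) * ((y : CZ z) : G) = ((y : CZ z) : G) * ((x : CZ z) : G) ↔
      bf (eta ((x : CZ z) : G)) (eta ((y : CZ z) : G)) = 0 := h.comm_iff x.2 y.2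
    rw [bL_apply, ← h1, Subtype.ext_iff]
    rfl
  L g := act1 (pi g)
  L_cls g x y e := by
    have h1 : eta ((g : G) * ((x : CZ z) : G) * (g : G)⁻¹) = pi g • eta ((x : CZ z) : G) := h.eta_conj g _ x.2
    rw [act1_apply, ← h1, e]
    rfl

/-- lifts commuting with `u` -/
theorem exists_lift (h : Chart Q z eta pi) {u : G} (hu : u ∈ Q) (hv : eta u ≠ 0) {l : Co1} (hl : l • eta u = eta u) :
    ∃ c : CZ z, pi c = l ∧ (c : G) * u = u * c := by
  obtain ⟨c, hc⟩ := h.pi_surj l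
  have hm : (c : G) * u * (c : G)⁻¹ ∈ Q := h.large.conj_mem c (Subgroup.mem_centralizer_singleton_iff.1 c.2) u hu
  have h1 : eta ((c : G) * u * (c : G)⁻¹) = eta u := by rw [h.eta_conj c u hu, hc, hl]
  rcases (h.eta_eq hm hu).1 h1 with h2 | h2
  · exact ⟨c, hc, mul_inv_eq_iff_eq_mul.1 h2⟩
  · obtain ⟨w, hw⟩ : ∃ w, bf (eta u) w ≠ 0 := by
      by_contra hno
      push Not at hno
      exact hv (bf_nondeg hno)
    obtain ⟨q, hq, rfl⟩ := h.eta_surj w
    have h3 : u * q = q * u * z := by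
      rcases h.large.comm u hu q hq with e | e
      · exact absurd ((h.comm_iff hu hq).1 e) hw
      · exact e
    have hqz : q * z = z * q := h.large.comm_z q hq
    refine ⟨⟨q, Subgroup.mem_centralizer_singleton_iff.2 hqz⟩ * c, ?_, ?_⟩
    · rw [map_mul, hc, (h.pi_eq_one _).2 hq, one_mul]
    · show q * (c : G) * u = u * (q * c)
      have h4 : (c : G) * u = u * z * c := mul_inv_eq_iff_eq_mul.1 h2
      have huz : u * z = z * u := h.large.comm_z u hu
      calc q * (c : G) * u = q * (c * u) := by group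
        _ = q * (u * z) * c := by rw [h4]; group
        _ = (q * u * z) * c := by group
        _ = (u * q) * c := by rw [h3]
        _ = u * (q * c) := by group

theorem finrank_L2 : finrank (ZMod 2) L2 = 24 := by
  have h1 : Nat.card L2 = 2 ^ finrank (ZMod 2) L2 := by
    rw [Module.natCard_eq_pow_finrank (K := ZMod 2), Nat.card_zmod]
  rw [card_L2] at h1
  exact (Nat.pow_right_injective (le_refl 2) h1).symm

/-- **Elements outside `Q`.** -/
theorem cent_out (h : Chart Q z eta pi) {u : G} (hu : u ∈ Q) (hv : IsType 2 (eta u)) {g : CZ z}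
    (hgu : (g : G) * u = u * g) (hF : F23h (eta u) (pi g)) (hfr : fr (pi g) ≤ 2 ^ 21) :
    ∃ a b : CZ z, (a : G) * u = u * a ∧ (b : G) * u = u * b ∧ g = a * b * a⁻¹ * b⁻¹ := by
  have hE := es_of_large h.large
  have hv0 : eta u ≠ 0 := by
    intro e
    rw [e] at hv
    exact Cfsg.Agent.MonsterU.InvPair.not_zero_two hv
  obtain ⟨a₀, b₀, ha₀, hb₀, hl, ⟨y, hy, hy23⟩, k, hk, w, hw⟩ := hF
  obtain ⟨a, rfl, ha⟩ := exists_lift h hu hv0 ha₀
  obtain ⟨b, rfl, hb⟩ := exists_lift h hu hv0 hb₀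
  have huz : u * z = z * u := h.large.comm_z u hu
  let u' : CZ z := ⟨u, Subgroup.mem_centralizer_singleton_iff.2 huz⟩
  have hu' : u' ∈ Q.subgroupOf (CZ z) := hu
  have hu1 : u' ≠ 1 := by
    intro e
    apply hv0
    rw [show u = 1 from congrArg Subtype.val e, h.eta_one]
  have huz' : u' ≠ zC z := by
    intro e
    apply hv0
    rw [show u = z from congrArg Subtype.val e, h.eta_z]
  let D := vdata h
  have hfp : FPr (Q.subgroupOf (CZ z)) (zC z) u' a b := by
    refine FPr.of_fix hE D hu' hu1 huz' (Subtype.ext ha) (Subtype.ext hb) ?_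
    intro (x : L2) hxa hxb
    have hxa' : pi a • x = x ∨ pi a • x = x + eta u := hxa
    have hxb' : pi b • x = x ∨ pi b • x = x + eta u := hxb
    have h1 := mod_closure ha₀ hb₀ hxa' hxb' hy
    have h2 := mod_closure ha₀ hb₀ hxa' hxb' hk
    have h3 := fix_of_mod hy23 h1.1 h1.2
    exact fix23 hy23 hv h1.1 h3 (no_functional (qf_two hv) h2.1 hw h2.2)
  have hact : finrank (ZMod 2) (LinearMap.ker ((act1 (pi g)).toLinearMap - LinearMap.id)) + 3 ≤
        finrank (ZMod 2) L2 := by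
    rw [finrank_L2]
    have h1 : Nat.card (LinearMap.ker ((act1 (pi g)).toLinearMap - LinearMap.id)) = fr (pi g) := by
      apply Nat.card_congr
      apply Equiv.subtypeEquivRight
      intro x
      rw [LinearMap.mem_ker, LinearMap.sub_apply, sub_eq_zero]
      rfl
    rw [Module.natCard_eq_pow_finrank (K := ZMod 2), Nat.card_zmod] at h1
    rw [← h1] at hfr
    have h2 := (Nat.pow_le_pow_iff_right (by norm_num : 1 < 2)).1 hfr
    omega
  obtain ⟨q₁, h₁, s₁, q₂, h₂, s₂, e⟩ := step_r hE D hu' hu1 huz' (Subtype.ext ha) (Subtype.ext hb)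
    (Subtype.ext hgu) hfp (by
      show ((g * (a * b * a⁻¹ * b⁻¹)⁻¹ : CZ z) : G) ∈ Q
      rw [← h.pi_eq_one, map_mul, hl]
      simp only [_root_.mul_inv_rev, _root_.inv_inv, _root_.map_mul, _root_.map_inv, _root_.mul_inv_mul_mul_cancel, _root_.mul_mul_inv_mul_cancel, _root_.mul_inv_cancel]) hact
  have s₁' : (q₁ : G) * u = u * q₁ := congrArg Subtype.val s₁
  have s₂' : (q₂ : G) * u = u * q₂ := congrArg Subtype.val s₂
  refine ⟨q₁ * a, q₂ * b, ?_, ?_, e⟩
  · show (q₁ : G) * a * u = u * (q₁ * a)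
    rw [mul_assoc, ha, ← mul_assoc, s₁', mul_assoc]
  · show (q₂ : G) * b * u = u * (q₂ * b)
    rw [mul_assoc, hb, ← mul_assoc, s₂', mul_assoc]

end

end Cfsg.Agent.H658.TwoB
end
end

-- part: H630/TwoB/DivChart
section
prune_inst 0x21400400000000000018058411000000000000000000000090000200020400002000000004100000000a00402000000000000000404000000e000000000000000000000000000000300000000000000000000000000000000000000000000004000000000
set_option linter.all false
open scoped Cfsg.Agent.FastGrp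

-- part: H630/TwoB/Div
section
/-!
# Degrees of characters of a group with an almost extraspecial normal subgroup (helper630, row 2.B of S2491/S2492)

* `dvd_index` : a constituent `μ` of degree one of `ψ|_R`, `R` normal: the index of the stabilizer of `μ` divides `ψ(1)`;
* `dvd_irr` : `R` normal of order `2^24`, centre `⟨z, u⟩`, commutators in `⟨z⟩`, `ψ(u) = -ψ(1)`, all stabilizers of the linear
  characters with `z ↦ 1`, `u ↦ -1` of index divisible by `2^11`: then `2^11 ∣ ψ(1)`;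
* `dvd_char` : the same for characters which are not irreducible.
-/

set_option autoImplicit false

open Cfsg Subgroup
open scoped ComplexConjugate

namespace Cfsg.Agent.H630.TwoB.Div

open Cfsg.Agent.Characters.Core Cfsg.Agent.Characters.Clifford

universe u

section gen

variable {S : Type u} [Group S]

theorem central_scalar {χ : S → ℂ} (hχ : IsIrrCharacter S χ) {z : S} (hz : ∀ g, z * g = g * z) :
    ∃ a : ℂ, ∀ x, χ (z * x) = a * χ x := by
  obtain ⟨n, ρ, hρ, rfl⟩ := isIrrCharacter_def.1 hχ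
  obtain ⟨a, ha⟩ := Cfsg.Agent.CharDeep.IrrEquiv.exists_smul_of_commute ρ hρ (ρ z) (by
    intro g
    rw [← map_mul, ← map_mul, hz])
  refine ⟨a, fun x => ?_⟩
  show LinearMap.trace ℂ _ (ρ (z * x)) = a * LinearMap.trace ℂ _ (ρ x)
  rw [map_mul, ha, smul_mul_assoc, one_mul, map_smul, smul_eq_mul]

theorem central_pm {χ : S → ℂ} (hχ : IsIrrCharacter S χ) {z : S} (hz : ∀ g, z * g = g * z) (hz2 : z * z = 1) :
    (∀ x, χ (z * x) = χ x) ∨ ∀ x, χ (z * x) = -χ x := by
  obtain ⟨a, ha⟩ := central_scalar hχ hz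
  have h0 := isIrr_apply_one_ne_zero hχ
  have h1 : χ 1 = a * (a * χ 1) := by
    rw [← ha, ← ha, mul_one, hz2]
  have h2 : a * a = 1 := by
    have h4 : (a * a - 1) * χ 1 = 0 := by linear_combination -h1
    exact sub_eq_zero.1 ((mul_eq_zero.1 h4).resolve_right h0)
  rcases mul_self_eq_one_iff.1 h2 with h | h
  · left; intro x; rw [ha, h, one_mul]
  · right; intro x; rw [ha, h, neg_one_mul]

theorem inner_scalar {G : Type u} [Group G] [Fintype G] {f g : G → ℂ} {z : G} {a b : ℂ}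
    (hf : ∀ x, f (z * x) = a * f x) (hg : ∀ x, g (z * x) = b * g x) (h : classInner f g ≠ 0) :
    a * conj b = 1 := by
  have h1 : classInner f g = a * conj b * classInner f g := by
    rw [classInner_def]
    have e1 : ∑ x : G, f x * conj (g x) = ∑ x : G, f (z * x) * conj (g (z * x)) :=
      (Fintype.sum_bijective (fun x => z * x) (Group.mulLeft_bijective z) _ _ fun x => rfl).symm
    have e2 : ∑ x : G, f (z * x) * conj (g (z * x)) = a * conj b * ∑ x : G, f x * conj (g x) := by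
      rw [Finset.mul_sum]
      refine Finset.sum_congr rfl fun x _ => ?_
      rw [hf, hg, map_mul]
      ring
    conv_lhs => rw [e1, e2]
    ring
  have h2 : (1 - a * conj b) * classInner f g = 0 := by
    rw [sub_mul, one_mul, ← h1, sub_self]
  rcases mul_eq_zero.1 h2 with h3 | h3
  · exact (sub_eq_zero.1 h3).symm
  · exact absurd h3 h

/-- commutators in the kernel: the degree is one -/
theorem lin_of [Finite S] {μ : S → ℂ} (hμ : IsIrrCharacter S μ) {z : S} (hz : ∀ g, z * g = g * z)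
    (hcomm : ∀ a b : S, a * b = b * a ∨ a * b = z * (b * a)) (hzμ : ∀ x, μ (z * x) = μ x) : μ 1 = 1 := by
  have := Fintype.ofFinite S
  obtain ⟨n, ρ, hρ, rfl⟩ := isIrrCharacter_def.1 hμ
  have h0 := isIrr_apply_one_ne_zero hμ
  have ez : ρ z = 1 := by
    obtain ⟨a, ha⟩ := Cfsg.Agent.CharDeep.IrrEquiv.exists_smul_of_commute ρ hρ (ρ z) (by
      intro g
      rw [← map_mul, ← map_mul, hz])
    have h1 : a * ρ.character 1 = ρ.character 1 := by
      have h2 := hzμ 1
      rw [mul_one] at h2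
      have h3 : ρ.character z = a * ρ.character 1 := by
        show LinearMap.trace ℂ _ (ρ z) = a * LinearMap.trace ℂ _ (ρ 1)
        rw [map_one, ha, map_smul, smul_eq_mul]
      rw [← h3, h2]
    have h3 : a = 1 := by
      have h4 : (a - 1) * ρ.character 1 = 0 := by linear_combination h1
      exact sub_eq_zero.1 ((mul_eq_zero.1 h4).resolve_right h0)
    rw [ha, h3, one_smul]
  have hab : ∀ a b : S, ρ (a * b) = ρ (b * a) := by
    intro a b
    rcases hcomm a b with h | h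
    · rw [h]
    · rw [h, map_mul, ez, one_mul]
  have hs : ∀ a : S, ∃ c : ℂ, ∀ x : S, ρ.character (a * x) = c * ρ.character x := by
    intro a
    obtain ⟨c, hc⟩ := Cfsg.Agent.CharDeep.IrrEquiv.exists_smul_of_commute ρ hρ (ρ a) (by
      intro g
      rw [← map_mul, ← map_mul, hab])
    refine ⟨c, fun x => ?_⟩
    show LinearMap.trace ℂ _ (ρ (a * x)) = c * LinearMap.trace ℂ _ (ρ x)
    rw [map_mul, hc, smul_mul_assoc, one_mul, map_smul, smul_eq_mul]
  have h1 := classInner_irr_self hμ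
  rw [classInner_def] at h1
  have h2 : ∀ a : S, ρ.character a * conj (ρ.character a) = ρ.character 1 * ρ.character 1 := by
    intro a
    rw [← isCharacter_apply_inv (isIrr_isCharacter hμ)]
    obtain ⟨c, hc⟩ := hs a
    have h3 := hc 1
    have h4 := hc a⁻¹
    rw [mul_one] at h3
    rw [mul_inv_cancel] at h4
    rw [h3]
    linear_combination (-ρ.character 1) * h4
  rw [Finset.sum_congr rfl fun a _ => h2 a, Finset.sum_const, Finset.card_univ, nsmul_eq_mul,
    ← Nat.card_eq_fintype_card, ← mul_assoc, inv_mul_cancel₀ card_ne_zero_complex, one_mul] at h1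
  obtain ⟨m, hm0, hm⟩ := isIrr_apply_one hμ
  rw [hm] at h1 ⊢
  have h5 : m * m = 1 := by exact_mod_cast h1
  have h6 : m = 1 := Nat.eq_one_of_mul_eq_one_right h5
  rw [h6, Nat.cast_one]

end gen

section index

variable {S : Type u} [Group S] (R : Subgroup S) [R.Normal]

/-- the stabilizer of a function on a normal subgroup -/
def stab (μ : R → ℂ) : Subgroup S where
  carrier := {g | ∀ r : R, μ (MulAut.conjNormal g r) = μ r}
  mul_mem' := by
    intro a b ha hb r
    rw [map_mul, MulAut.mul_apply, ha, hb]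
  one_mem' := by
    intro r
    rw [map_one]
    rfl
  inv_mem' := by
    intro a ha r
    have h := ha (MulAut.conjNormal a⁻¹ r)
    rw [← MulAut.mul_apply, ← map_mul, mul_inv_cancel, map_one, MulAut.one_apply] at h
    exact h.symm

variable {R}

theorem mem_stab {μ : R → ℂ} {g : S} : g ∈ stab R μ ↔ ∀ r : R, μ (MulAut.conjNormal g r) = μ r := Iff.rfl

theorem deg_cast {ψ : S → ℂ} (hψ : IsIrrCharacter S ψ) : ψ 1 = (charDegree ψ : ℂ) := Blocks.Knorr.charDegree_eq hψ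

/-- **Clifford for a linear constituent.** -/
theorem dvd_index [Finite S] {ψ : S → ℂ} (hψ : IsIrrCharacter S ψ) {μ : R → ℂ} (hμ : IsIrrCharacter R μ) (h1 : μ 1 = 1)
    [Fintype R] (hm : classInner (fun r : R => ψ r) μ ≠ 0) : (stab R μ).index ∣ charDegree ψ := by
  classical
  have := Fintype.ofFinite S
  have : Finite (IrrCharacter R) := finite_irr
  have := Fintype.ofFinite (IrrCharacter R)
  have hres : IsCharacter R (fun r : R => ψ r) := isCharacter_restrict R (isIrr_isCharacter hψ)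
  have hcl := isIrr_isClassFunction hψ
  let φ : S → IrrCharacter R := fun g => ⟨μ ∘ (MulAut.conjNormal g⁻¹ : MulAut R), isIrr_conjNormal hμ g⁻¹⟩
  have hφ : ∀ a b : S, a⁻¹ * b ∈ stab R μ ↔ φ a = φ b := by
    intro a b
    rw [mem_stab, Subtype.ext_iff, funext_iff]
    constructor
    · intro h r
      have h2 := h (MulAut.conjNormal b⁻¹ r)
      rw [← MulAut.mul_apply, ← map_mul, mul_assoc, mul_inv_cancel, mul_one] at h2
      exact h2
    · intro h r
      have h2 := h (MulAut.conjNormal b r)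
      show μ (MulAut.conjNormal (a⁻¹ * b) r) = μ r
      have h3 : μ (MulAut.conjNormal a⁻¹ (MulAut.conjNormal b r)) = μ (MulAut.conjNormal b⁻¹ (MulAut.conjNormal b r)) := h2
      rw [← MulAut.mul_apply, ← map_mul, ← MulAut.mul_apply, ← map_mul, inv_mul_cancel, map_one] at h3
      exact h3
  let F : S ⧸ stab R μ → IrrCharacter R := Quotient.lift φ (fun a b hab => (hφ a b).1 (QuotientGroup.leftRel_apply.1 hab))
  have hF : ∀ g : S, F (QuotientGroup.mk g) = φ g := fun g => rfl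
  have hFi : Function.Injective F := by
    intro a b
    induction a using QuotientGroup.induction_on
    induction b using QuotientGroup.induction_on
    rename_i a b
    intro hab
    rw [hF, hF] at hab
    exact QuotientGroup.eq.2 ((hφ a b).2 hab)
  have := Fintype.ofFinite (S ⧸ stab R μ)
  have h2 := congrFun (classFunction_eq_sum (isCharacter_isClassFunction hres)) 1
  rw [Finset.sum_apply] at h2
  have h3 : ∑ ν : IrrCharacter R, (classInner (fun r : R => ψ r) (ν : R → ℂ) • (ν : R → ℂ)) 1 =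
      ∑ ν ∈ Finset.univ.image F, (classInner (fun r : R => ψ r) (ν : R → ℂ) • (ν : R → ℂ)) 1 := by
    symm
    refine Finset.sum_subset (Finset.subset_univ _) fun ν _ hν => ?_
    have h4 : classInner (fun r : R => ψ r) (ν : R → ℂ) = 0 := by
      by_contra h5
      obtain ⟨g, hg⟩ := exists_conj_of_constituents R hψ hμ ν.2 hm h5
      apply hν
      refine Finset.mem_image.2 ⟨QuotientGroup.mk g⁻¹, Finset.mem_univ _, ?_⟩
      rw [hF]
      refine Subtype.ext ?_
      show μ ∘ (MulAut.conjNormal g⁻¹⁻¹ : MulAut R) = ν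
      rw [inv_inv, hg]
    rw [Pi.smul_apply, h4, zero_smul]
  have h4 : ∀ q : S ⧸ stab R μ, (classInner (fun r : R => ψ r) (F q : R → ℂ) • (F q : R → ℂ)) 1 =
      classInner (fun r : R => ψ r) μ := by
    intro q
    induction q using QuotientGroup.induction_on
    rename_i g
    rw [hF, Pi.smul_apply, smul_eq_mul]
    show classInner (fun r : R => ψ r) (μ ∘ (MulAut.conjNormal g⁻¹ : MulAut R)) * μ (MulAut.conjNormal g⁻¹ 1) = _
    rw [classInner_restrict_conjNormal hcl, map_one, h1, mul_one]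
  rw [h3, Finset.sum_image (fun a _ b _ hab => hFi hab), Finset.sum_congr rfl fun q _ => h4 q, Finset.sum_const,
    Finset.card_univ, ← Nat.card_eq_fintype_card, nsmul_eq_mul] at h2
  obtain ⟨m, hm⟩ := classInner_isNat hres (isIrr_isCharacter hμ)
  rw [hm] at h2
  refine ⟨m, ?_⟩
  have h5 : ψ 1 = ((stab R μ).index * m : ℕ) := by
    push_cast
    rw [index_eq_card]
    exact h2
  rw [deg_cast hψ] at h5
  exact_mod_cast h5

end index

section main

variable {S : Type u} [Group S] [Finite S] {R : Subgroup S} [R.Normal] {z u : S}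

/-- the data -/
structure Dat (R : Subgroup S) [R.Normal] (z u : S) : Prop where
  zR : z ∈ R
  uR : u ∈ R
  zc : ∀ g, z * g = g * z
  uc : ∀ g, u * g = g * u
  z2 : z * z = 1
  u2 : u * u = 1
  z1 : z ≠ 1
  u1 : u ≠ 1
  uz : u ≠ z
  comm : ∀ a ∈ R, ∀ b ∈ R, a * b = b * a ∨ a * b = z * (b * a)
  cen : ∀ a ∈ R, (∀ b ∈ R, a * b = b * a) → a = 1 ∨ a = z ∨ a = u ∨ a = z * u
  card : Nat.card R = 2 ^ 24
  st : ∀ f : R →* ℂˣ, f ⟨z, zR⟩ = 1 → f ⟨u, uR⟩ = -1 → 2 ^ 11 ∣ (stab R (fun r => (f r : ℂ))).index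

/-- `z ↦ -1` -/
theorem dvd_minus (D : Dat R z u) {ψ : S → ℂ} (hψ : IsIrrCharacter S ψ) (hu : ∀ x, ψ (u * x) = -ψ x)
    (hz : ∀ x, ψ (z * x) = -ψ x) : 2 ^ 11 ∣ charDegree ψ := by
  classical
  have := Fintype.ofFinite S
  have := Fintype.ofFinite R
  have hres : IsCharacter R (fun r : R => ψ r) := isCharacter_restrict R (isIrr_isCharacter hψ)
  have hcl := isIrr_isClassFunction hψ
  obtain ⟨m, hm⟩ := classInner_isNat hres hres
  rw [classInner_def, inv_mul_eq_iff_eq_mul₀ card_ne_zero_complex, D.card] at hm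
  -- the central elements
  let Z4 : Finset R := {1, ⟨z, D.zR⟩, ⟨u, D.uR⟩, ⟨z * u, R.mul_mem D.zR D.uR⟩}
  have hzu1 : z * u ≠ 1 := fun h => D.uz (by rw [← mul_left_cancel_iff (a := z), h, D.z2])
  have hzuz : z * u ≠ z := fun h => D.u1 (mul_left_cancel (by rw [h, mul_one]))
  have hzuu : z * u ≠ u := fun h => D.z1 (mul_right_cancel (by rw [h, one_mul]))
  have h4 : Z4.card = 4 := by
    have n1 : (1 : R) ≠ ⟨z, D.zR⟩ := fun h => D.z1 (congrArg Subtype.val h).symm
    have n2 : (1 : R) ≠ ⟨u, D.uR⟩ := fun h => D.u1 (congrArg Subtype.val h).symm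
    have n3 : (1 : R) ≠ ⟨z * u, R.mul_mem D.zR D.uR⟩ := fun h => hzu1 (congrArg Subtype.val h).symm
    have n4 : (⟨z, D.zR⟩ : R) ≠ ⟨u, D.uR⟩ := fun h => D.uz (congrArg Subtype.val h).symm
    have n5 : (⟨z, D.zR⟩ : R) ≠ ⟨z * u, R.mul_mem D.zR D.uR⟩ := fun h => hzuz (congrArg Subtype.val h).symm
    have n6 : (⟨u, D.uR⟩ : R) ≠ ⟨z * u, R.mul_mem D.zR D.uR⟩ := fun h => hzuu (congrArg Subtype.val h).symm
    rw [Finset.card_insert_of_notMem, Finset.card_insert_of_notMem, Finset.card_pair n6]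
    · simp [n4, n5]
    · simp [n1, n2, n3]
  have hoff : ∀ r : R, r ∉ Z4 → ψ r = 0 := by
    intro r hr
    have h5 : ¬ ∀ b ∈ R, (r : S) * b = b * r := by
      intro h6
      apply hr
      rcases D.cen r r.2 h6 with h7 | h7 | h7 | h7
      · exact Finset.mem_insert.2 (Or.inl (Subtype.ext h7))
      · exact Finset.mem_insert_of_mem (Finset.mem_insert.2 (Or.inl (Subtype.ext h7)))
      · exact Finset.mem_insert_of_mem (Finset.mem_insert_of_mem (Finset.mem_insert.2 (Or.inl (Subtype.ext h7))))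
      · exact Finset.mem_insert_of_mem (Finset.mem_insert_of_mem (Finset.mem_insert_of_mem
          (Finset.mem_singleton.2 (Subtype.ext h7))))
    push Not at h5
    obtain ⟨b, hb, h6⟩ := h5
    have h7 := (D.comm r r.2 b hb).resolve_left h6
    have h8 : b⁻¹ * (r : S) * b⁻¹⁻¹ = z * r := by
      rw [inv_inv, mul_assoc, h7, ← mul_assoc, ← D.zc, mul_assoc, ← mul_assoc b⁻¹, inv_mul_cancel, one_mul]
    have h9 := hcl (r : S) b⁻¹
    rw [h8, hz] at h9
    have h10 : (2 : ℂ) * ψ r = 0 := by linear_combination -h9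
    exact (mul_eq_zero.1 h10).resolve_left two_ne_zero
  have hon : ∀ r ∈ Z4, ψ (r : S) * conj (ψ (r : S)) = ψ 1 * ψ 1 := by
    obtain ⟨n, hn0, hn⟩ := isIrr_apply_one hψ
    have e1 : ψ z = -ψ 1 := by rw [← hz, mul_one]
    have e2 : ψ u = -ψ 1 := by rw [← hu, mul_one]
    have e3 : ψ (z * u) = ψ 1 := by rw [hz, e2, neg_neg]
    intro r hr
    simp only [Z4, Finset.mem_insert, Finset.mem_singleton] at hr
    rcases hr with rfl | rfl | rfl | rfl
    · show ψ 1 * conj (ψ 1) = _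
      rw [hn, Complex.conj_natCast]
    · show ψ z * conj (ψ z) = _
      rw [e1, hn, map_neg, Complex.conj_natCast]; ring
    · show ψ u * conj (ψ u) = _
      rw [e2, hn, map_neg, Complex.conj_natCast]; ring
    · show ψ (z * u) * conj (ψ (z * u)) = _
      rw [e3, hn, Complex.conj_natCast]
  have hsum : ∑ r : R, ψ (r : S) * conj (ψ (r : S)) = 4 * (ψ 1 * ψ 1) := by
    rw [← Finset.sum_subset (Finset.subset_univ Z4) (fun r _ hr => by rw [hoff r hr, zero_mul]),
      Finset.sum_congr rfl hon, Finset.sum_const, h4, nsmul_eq_mul]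
    norm_num
  rw [hsum, deg_cast hψ] at hm
  have h5 : 4 * (charDegree ψ * charDegree ψ) = 2 ^ 24 * m := by exact_mod_cast hm
  have h6 : (2 ^ 11) ^ 2 ∣ charDegree ψ ^ 2 := ⟨m, by
    have : (2 ^ 11) ^ 2 * m * 4 = 2 ^ 24 * m := by norm_num; ring
    rw [pow_two (charDegree ψ)]
    omega⟩
  exact (Nat.pow_dvd_pow_iff two_ne_zero).1 h6

/-- `z ↦ 1` -/
theorem dvd_plus (D : Dat R z u) {ψ : S → ℂ} (hψ : IsIrrCharacter S ψ) (hu : ∀ x, ψ (u * x) = -ψ x)
    (hz : ∀ x, ψ (z * x) = ψ x) : 2 ^ 11 ∣ charDegree ψ := by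
  classical
  have := Fintype.ofFinite S
  have := Fintype.ofFinite R
  have : Finite (IrrCharacter R) := finite_irr
  have := Fintype.ofFinite (IrrCharacter R)
  have hres : IsCharacter R (fun r : R => ψ r) := isCharacter_restrict R (isIrr_isCharacter hψ)
  obtain ⟨μ, hμ⟩ : ∃ μ : IrrCharacter R, classInner (fun r : R => ψ r) (μ : R → ℂ) ≠ 0 := by
    by_contra hno
    push Not at hno
    have h2 := congrFun (classFunction_eq_sum (isCharacter_isClassFunction hres)) 1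
    rw [Finset.sum_apply, Finset.sum_eq_zero (fun μ _ => by rw [Pi.smul_apply, hno μ, zero_smul])] at h2
    exact isIrr_apply_one_ne_zero hψ h2
  have hzc : ∀ g : R, (⟨z, D.zR⟩ : R) * g = g * ⟨z, D.zR⟩ := fun g => Subtype.ext (D.zc g)
  have huc : ∀ g : R, (⟨u, D.uR⟩ : R) * g = g * ⟨u, D.uR⟩ := fun g => Subtype.ext (D.uc g)
  have hzμ : ∀ x : R, (μ : R → ℂ) (⟨z, D.zR⟩ * x) = (μ : R → ℂ) x := by
    rcases central_pm μ.2 hzc (Subtype.ext D.z2) with h | h
    · exact h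
    · exfalso
      have h3 := inner_scalar (f := fun r : R => ψ r) (g := (μ : R → ℂ)) (z := ⟨z, D.zR⟩) (a := 1) (b := -1)
        (fun x => by rw [one_mul]; exact hz x) (fun x => by rw [h, neg_one_mul]) hμ
      norm_num at h3
  have huμ : ∀ x : R, (μ : R → ℂ) (⟨u, D.uR⟩ * x) = -(μ : R → ℂ) x := by
    rcases central_pm μ.2 huc (Subtype.ext D.u2) with h | h
    · exfalso
      have h3 := inner_scalar (f := fun r : R => ψ r) (g := (μ : R → ℂ)) (z := ⟨u, D.uR⟩) (a := -1) (b := 1)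
        (fun x => by rw [neg_one_mul]; exact hu x) (fun x => by rw [h, one_mul]) hμ
      norm_num at h3
    · exact h
  have h1 : (μ : R → ℂ) 1 = 1 := lin_of μ.2 hzc (fun a b => by
    rcases D.comm a a.2 b b.2 with h | h
    · exact Or.inl (Subtype.ext h)
    · exact Or.inr (Subtype.ext h)) hzμ
  obtain ⟨f, hf⟩ := Characters.Linear.exists_hom_of_isIrrCharacter μ.2 h1
  have fz : f ⟨z, D.zR⟩ = 1 := by
    apply Units.ext
    have h2 := hzμ 1
    rw [mul_one, h1, hf] at h2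
    exact h2
  have fu : f ⟨u, D.uR⟩ = -1 := by
    apply Units.ext
    have h2 := huμ 1
    rw [mul_one, h1, hf] at h2
    rw [Units.val_neg, Units.val_one]
    exact h2
  have h3 := D.st f fz fu
  rw [← hf] at h3
  exact h3.trans (dvd_index hψ μ.2 h1 hμ)

/-- **Irreducible characters with `u ↦ -1`.** -/
theorem dvd_irr (D : Dat R z u) {ψ : S → ℂ} (hψ : IsIrrCharacter S ψ) (hu : ψ u = -ψ 1) : 2 ^ 11 ∣ charDegree ψ := by
  have hu' : ∀ x, ψ (u * x) = -ψ x := by
    rcases central_pm hψ D.uc D.u2 with h | h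
    · exfalso
      have h1 := h 1
      rw [mul_one, hu] at h1
      have h2 : (2 : ℂ) * ψ 1 = 0 := by linear_combination -h1
      exact isIrr_apply_one_ne_zero hψ ((mul_eq_zero.1 h2).resolve_left two_ne_zero)
    · exact h
  rcases central_pm hψ D.zc D.z2 with h | h
  · exact dvd_plus D hψ hu' h
  · exact dvd_minus D hψ hu' h

/-- **All characters with `u ↦ -1`.** -/
theorem dvd_char (D : Dat R z u) {χ : S → ℂ} (hχ : IsCharacter S χ) (hu : χ u = -χ 1) {n : ℕ} (hn : χ 1 = n) :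
    2 ^ 11 ∣ n := by
  classical
  have : Finite (IrrCharacter S) := finite_irr
  have := Fintype.ofFinite (IrrCharacter S)
  obtain ⟨m, hm⟩ := exists_nat_comb hχ
  have hval : ∀ x, χ x = ∑ ψ : IrrCharacter S, (m ψ : ℂ) * (ψ : S → ℂ) x := by
    intro x
    conv_lhs => rw [hm]
    rw [Finset.sum_apply]
    exact Finset.sum_congr rfl fun ψ _ => by rw [Pi.smul_apply, nsmul_eq_mul]
  have hdeg : ∀ ψ : IrrCharacter S, (ψ : S → ℂ) 1 = (charDegree (ψ : S → ℂ) : ℂ) := fun ψ => deg_cast ψ.2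
  -- every constituent has `u ↦ -1`
  have key : ∀ ψ : IrrCharacter S, m ψ ≠ 0 → (ψ : S → ℂ) u = -(ψ : S → ℂ) 1 := by
    have h1 : ∑ ψ : IrrCharacter S, (m ψ : ℂ) * ((ψ : S → ℂ) u + (ψ : S → ℂ) 1) = 0 := by
      have h2 := hval u
      have h3 := hval 1
      rw [hu] at h2
      simp only [mul_add, Finset.sum_add_distrib]
      rw [← h2, ← h3]
      ring
    have h4 : ∀ ψ : IrrCharacter S, ∃ k : ℕ, (m ψ : ℂ) * ((ψ : S → ℂ) u + (ψ : S → ℂ) 1) = (k : ℂ) ∧
        (k = 0 → m ψ ≠ 0 → (ψ : S → ℂ) u = -(ψ : S → ℂ) 1) := by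
      intro ψ
      rcases central_pm ψ.2 D.uc D.u2 with h | h
      · have h5 := h 1
        rw [mul_one] at h5
        refine ⟨m ψ * (2 * charDegree (ψ : S → ℂ)), ?_, fun h6 h7 => ?_⟩
        · rw [h5, hdeg]; push_cast; ring
        · exfalso
          rcases Nat.mul_eq_zero.1 h6 with h8 | h8
          · exact h7 h8
          · have h9 : charDegree (ψ : S → ℂ) = 0 := by omega
            exact isIrr_apply_one_ne_zero ψ.2 (by rw [hdeg, h9, Nat.cast_zero])
      · have h5 := h 1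
        rw [mul_one] at h5
        exact ⟨0, by rw [h5]; simp, fun _ _ => h5⟩
    choose k hk hk2 using h4
    have h5 : ∑ ψ : IrrCharacter S, (k ψ : ℂ) = 0 := by
      rw [← h1]
      exact Finset.sum_congr rfl fun ψ _ => (hk ψ).symm
    have h6 : ∑ ψ : IrrCharacter S, k ψ = 0 := by exact_mod_cast h5
    intro ψ hψ
    exact hk2 ψ (Finset.sum_eq_zero_iff.1 h6 ψ (Finset.mem_univ ψ)) hψ
  have h7 : n = ∑ ψ : IrrCharacter S, m ψ * charDegree (ψ : S → ℂ) := by
    have h8 := hval 1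
    rw [hn] at h8
    have h9 : (n : ℂ) = ((∑ ψ : IrrCharacter S, m ψ * charDegree (ψ : S → ℂ) : ℕ) : ℂ) := by
      rw [h8]
      push_cast
      exact Finset.sum_congr rfl fun ψ _ => by rw [hdeg]
    exact_mod_cast h9
  rw [h7]
  refine Finset.dvd_sum fun ψ _ => ?_
  by_cases h8 : m ψ = 0
  · rw [h8, zero_mul]
    exact dvd_zero _
  · exact (dvd_irr D ψ.2 (key ψ h8)).mul_left _

end main

end Cfsg.Agent.H630.TwoB.Div
end

-- part: H630/TwoB/DivChart
section
/-!
# Degrees of characters of the centralizer of a type 2 element of the chart (helper630, DIV11 of row 2.B, S2491/S2492)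

`div11` : `h : Chart Q z eta pi`, `u ∈ Q` with `eta u` of type 2, `χ` a character of `C(u)` with `χ(u) = -χ(1)`:
then `2^11 ∣ χ(1)`.
-/

set_option autoImplicit false

namespace Cfsg.Agent.H630.TwoB.DivChart

open Cfsg Module
open Cfsg.Agent.MonsterU.Ch (Chart)
open Cfsg.Agent.MonsterU.Lam2 (L2 cl smul_cl mk_smul IsType bf qf qf_add bf_add_left bf_add_right bf_comm bf_zero_left
  bf_zero_right bf_nondeg bf_smul1 bf_self qf_smul1 qf_zero card_L2)
open Cfsg.Agent.LThreeMB (bL bL_apply)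
open Cfsg.Agent.H630.TwoB.Div (Dat stab mem_stab)
open Cfsg.Agent.Characters.Core
open Cfsg.Spor (Co1)
open Cfsg.Agent.SporadicA.Co1Simple
open Cfsg.Agent.MonsterU.Fused

/-! ### `Co1` -/

/-- the stabilizer of a vector of type 2 is `Co2` -/
theorem card_stab {x : L2} (hx : IsType 2 x) : Nat.card (MulAction.stabilizer Co1 x) = 42305421312000 := by
  obtain ⟨v, hv, rfl⟩ := hx
  rw [show (16 : ℤ) * 2 = 32 by norm_num] at hv
  have hcard : Nat.card (MulAction.stabilizer Co0 v) = 42305421312000 := (Cfsg.Agent.S0402.result v hv).2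
  let f : MulAction.stabilizer Co0 v →* Co1 :=
    (QuotientGroup.mk' (Subgroup.center Co0)).comp (MulAction.stabilizer Co0 v).subtype
  have hf : ∀ g, f g = QuotientGroup.mk (g : Co0) := fun g => rfl
  have hfx : ∀ g, f g • cl v = cl v := by
    intro g
    rw [hf, mk_smul, smul_cl]
    exact congrArg cl (MulAction.mem_stabilizer_iff.1 g.2)
  have hsurj : ∀ s : Co1, s • cl v = cl v → ∃ g, f g = s := by
    intro s hs
    obtain ⟨t, rfl⟩ := QuotientGroup.mk_surjective s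
    rw [mk_smul, smul_cl] at hs
    rcases eq_or_neg (by rw [Cfsg.Agent.Leech.FrameAux.co0_sqNorm, hv]) hv hs with h | h
    · exact ⟨⟨t, h⟩, rfl⟩
    · refine ⟨⟨t * Cfsg.Agent.SporadicA.Co0Basic.negCo0, ?_⟩, ?_⟩
      · rw [MulAction.mem_stabilizer_iff, mul_smul]
        have : Cfsg.Agent.SporadicA.Co0Basic.negCo0 • v = -v := rfl
        rw [this, Cfsg.Agent.MonsterU.SmallComm.smul_neg', h, neg_neg]
      · rw [hf]
        refine (QuotientGroup.eq.2 ?_)
        show (t * Cfsg.Agent.SporadicA.Co0Basic.negCo0)⁻¹ * t ∈ _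
        rw [mul_inv_rev, inv_mul_cancel_right]
        apply Subgroup.inv_mem
        exact Cfsg.Agent.SporadicA.Co0Basic.negCo0_mem_center
  have hinj : Function.Injective f := by
    rw [injective_iff_map_eq_one]
    intro g hg
    rw [hf, QuotientGroup.eq_one_iff] at hg
    rcases Cfsg.Agent.SporadicA.Co0Basic.eq_one_or_neg_of_mem_center hg with h | h
    · exact Subtype.ext h
    · exfalso
      have h1 := MulAction.mem_stabilizer_iff.1 g.2
      rw [h] at h1
      have h3 : Cfsg.Agent.SporadicA.Co0Basic.negCo0 • v = -v := rfl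
      rw [h3] at h1
      have h4 : v = 0 := by
        apply Subtype.ext
        funext i
        have := congrArg (fun u : leechLattice => (u : GolayPt → ℤ) i) h1
        simp only [AddSubgroup.coe_neg, Pi.neg_apply] at this
        show (v : GolayPt → ℤ) i = 0
        omega
      rw [h4] at hv
      have : sqNorm ((0 : leechLattice) : GolayPt → ℤ) = 0 := by
        rw [sqNorm]
        exact Finset.sum_eq_zero fun i _ => by rw [AddSubgroup.coe_zero, Pi.zero_apply]; norm_num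
      rw [this] at hv
      norm_num at hv
  have hr : f.range = MulAction.stabilizer Co1 (cl v) := by
    ext s
    rw [MonoidHom.mem_range, MulAction.mem_stabilizer_iff]
    constructor
    · rintro ⟨g, rfl⟩
      exact hfx g
    · exact hsurj s
  rw [← hr, ← Nat.card_congr (MonoidHom.ofInjective hinj).toEquiv, hcard]

/-! ### linear algebra -/

theorem exists_repr (f : L2 →ₗ[ZMod 2] ZMod 2) : ∃ x, ∀ w, bf x w = f w := by
  have hinj : Function.Injective bL := by
    rw [← LinearMap.ker_eq_bot, LinearMap.ker_eq_bot']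
    intro v hv
    exact bf_nondeg fun w => by rw [← bL_apply, hv]; rfl
  have hfin : Finite L2 := Nat.finite_of_card_ne_zero (by rw [card_L2]; norm_num)
  have : Module.Finite (ZMod 2) L2 := Module.Finite.of_finite
  have hsurj : Function.Surjective bL :=
    (LinearMap.injective_iff_surjective_of_finrank_eq_finrank
      (Subspace.dual_finrank_eq (K := ZMod 2) (V := L2)).symm).1 hinj
  obtain ⟨v, hv⟩ := hsurj f
  exact ⟨v, fun w => by rw [← hv, bL_apply]⟩

/-- functionals on a hyperplane -/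
theorem exists_of_perp {v : L2} (g : L2 → ZMod 2)
    (hg : ∀ a b, bf v a = 0 → bf v b = 0 → g (a + b) = g a + g b) :
    ∃ x, ∀ w, bf v w = 0 → bf x w = g w := by
  let W : Submodule (ZMod 2) L2 := LinearMap.ker (bL v)
  have hW : ∀ w, w ∈ W ↔ bf v w = 0 := fun w => by rw [LinearMap.mem_ker, bL_apply]
  let g0 : W →+ ZMod 2 := AddMonoidHom.mk' (fun w => g w) (by
    intro a b
    exact hg a b ((hW _).1 a.2) ((hW _).1 b.2))
  obtain ⟨g1, h1⟩ := LinearMap.exists_extend (AddMonoidHom.toZModLinearMap 2 g0)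
  obtain ⟨x, hx⟩ := exists_repr g1
  refine ⟨x, fun w hw => ?_⟩
  rw [hx]
  have h2 := LinearMap.congr_fun h1 ⟨w, (hW w).2 hw⟩
  exact h2

/-! ### the Sylow subgroup -/

section

variable {G : Type} [Group G] {Q : Subgroup G} {z : G} {eta : G → L2}
  {pi : Subgroup.centralizer ({z} : Set G) →* Co1}

/-- the common centralizer as a subgroup of `C(z)` -/
def HC (z u : G) : Subgroup (Subgroup.centralizer ({z} : Set G)) where
  carrier := {c | (c : G) * u = u * c}
  mul_mem' := by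
    intro a b ha hb
    show (a : G) * b * u = u * (a * b)
    have ha' : (a : G) * u = u * a := ha
    have hb' : (b : G) * u = u * b := hb
    rw [mul_assoc, hb', ← mul_assoc, ha', mul_assoc]
  one_mem' := by
    show (1 : G) * u = u * 1
    rw [one_mul, mul_one]
  inv_mem' := by
    intro a ha
    have ha' : (a : G) * u = u * a := ha
    show (a : G)⁻¹ * u = u * (a : G)⁻¹
    rw [inv_mul_eq_iff_eq_mul, ← mul_assoc, ha', mul_inv_cancel_right]

theorem mem_HC {z u : G} {c : Subgroup.centralizer ({z} : Set G)} : c ∈ HC z u ↔ (c : G) * u = u * c := Iff.rfl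

/-- the elements of `Q` commuting with `u` -/
theorem card_fix (h : Chart Q z eta pi) {v : L2} (hv : v ≠ 0) : Nat.card {x : Q // bf v (eta x) = 0} = 2 ^ 24 := by
  have hfin := h.fin
  let κ : Q →* Multiplicative (ZMod 2) := MonoidHom.mk' (fun x => Multiplicative.ofAdd (bf v (eta x))) (by
    intro a b
    rw [Subgroup.coe_mul, h.eta_mul _ a.2 _ b.2, bf_add_right, ofAdd_add])
  have hκ : Function.Surjective κ := by
    intro a
    obtain ⟨y, hy⟩ := Cfsg.Agent.MonsterU.AmalPerf.exists_bf_one hv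
    rcases (by decide : ∀ c : ZMod 2, c = 0 ∨ c = 1) (Multiplicative.toAdd a) with h0 | h0
    · refine ⟨1, ?_⟩
      rw [map_one]
      exact (Multiplicative.toAdd.injective (by rw [h0]; rfl)).symm
    · obtain ⟨x, hx, e⟩ := h.eta_surj y
      refine ⟨⟨x, hx⟩, ?_⟩
      apply Multiplicative.toAdd.injective
      show bf v (eta x) = _
      rw [e, hy, h0]
  have h1 := Subgroup.card_eq_card_quotient_mul_card_subgroup κ.ker
  rw [Nat.card_congr (QuotientGroup.quotientKerEquivOfSurjective κ hκ).toEquiv, h.card_Q,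
    Nat.card_congr Multiplicative.toAdd, Nat.card_zmod] at h1
  have h2 : Nat.card κ.ker = Nat.card {x : Q // bf v (eta x) = 0} := by
    apply Nat.card_congr
    apply Equiv.subtypeEquivRight
    intro x
    rw [MonoidHom.mem_ker]
    constructor
    · intro h; exact congrArg Multiplicative.toAdd h
    · intro h; exact Multiplicative.toAdd.injective h
  rw [← h2]
  omega

/-- the map to `Co1` on the common centralizer -/
noncomputable def rho (u : G) (pi : Subgroup.centralizer ({z} : Set G) →* Co1) : HC z u →* Co1 :=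
  pi.comp (HC z u).subtype

theorem rho_apply {u : G} (c : HC z u) : rho u pi c = pi c := rfl

theorem type_ne {x : L2} (hx : IsType 2 x) : x ≠ 0 := by
  rintro rfl
  exact Cfsg.Agent.MonsterU.InvPair.not_zero_two hx

/-- the kernel -/
noncomputable def kerEquiv (h : Chart Q z eta pi) {u : G} (hu : u ∈ Q) (P : Subgroup (HC z u))
    (hP : (rho u pi).ker ≤ P) : ((rho u pi).comp P.subtype).ker ≃ {x : Q // bf (eta u) (eta x) = 0} where
  toFun r := ⟨⟨(((r : P) : HC z u) : Subgroup.centralizer ({z} : Set G)), (h.pi_eq_one _).1 r.2⟩, by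
    exact (h.comm_iff hu ((h.pi_eq_one _).1 r.2)).1 (mem_HC.1 ((r : P) : HC z u).2).symm⟩
  invFun x := ⟨⟨⟨⟨(x : Q), Subgroup.mem_centralizer_singleton_iff.2 (h.large.comm_z _ (x : Q).2)⟩,
    mem_HC.2 ((h.comm_iff hu (x : Q).2).2 x.2).symm⟩, hP ((h.pi_eq_one _).2 (x : Q).2)⟩,
      (h.pi_eq_one _).2 (x : Q).2⟩
  left_inv r := rfl
  right_inv x := rfl

theorem card_HC [Finite G] (h : Chart Q z eta pi) {u : G} (hu : u ∈ Q) (hv : IsType 2 (eta u)) :
    Nat.card (HC z u) = 2 ^ 42 * 161382375 := by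
  have h1 := Subgroup.card_eq_card_quotient_mul_card_subgroup (rho u pi).ker
  have h2 : Nat.card (rho u pi).ker = 2 ^ 24 := by
    have e : Nat.card ((rho u pi).comp (⊤ : Subgroup (HC z u)).subtype).ker = Nat.card (rho u pi).ker := by
      refine Nat.card_congr ⟨fun r => ⟨(r : (⊤ : Subgroup (HC z u))), r.2⟩, fun r => ⟨⟨r, trivial⟩, r.2⟩, fun _ => rfl,
        fun _ => rfl⟩
    rw [← e, Nat.card_congr (kerEquiv h hu ⊤ le_top), card_fix h (type_ne hv)]
  have h3 : (rho u pi).range = MulAction.stabilizer Co1 (eta u) := by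
    ext s
    rw [MonoidHom.mem_range, MulAction.mem_stabilizer_iff]
    constructor
    · rintro ⟨c, rfl⟩
      have hc : ((c : Subgroup.centralizer ({z} : Set G)) : G) * u = u * (c : Subgroup.centralizer ({z} : Set G)) := c.2
      rw [rho_apply, ← h.eta_conj _ u hu, hc, mul_inv_cancel_right]
    · intro hs
      obtain ⟨c, hc, e⟩ := Cfsg.Agent.H658.TwoB.exists_lift h hu (type_ne hv) hs
      exact ⟨⟨c, e⟩, hc⟩
  rw [Nat.card_congr (QuotientGroup.quotientKerEquivRange (rho u pi)).toEquiv, h2, h3, card_stab hv] at h1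
  rw [h1]
  norm_num

theorem pi_fix (h : Chart Q z eta pi) {u : G} (hu : u ∈ Q) (c : HC z u) :
    pi (c : Subgroup.centralizer ({z} : Set G)) • eta u = eta u := by
  have hc : ((c : Subgroup.centralizer ({z} : Set G)) : G) * u = u * (c : Subgroup.centralizer ({z} : Set G)) := c.2
  rw [← h.eta_conj _ u hu, hc, mul_inv_cancel_right]

set_option maxHeartbeats 1600000 in
/-- **The data of a Sylow subgroup.** -/
theorem exists_dat [Finite G] (h : Chart Q z eta pi) {u : G} (hu : u ∈ Q) (hv : IsType 2 (eta u)) :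
    ∃ (P : Subgroup (HC z u)) (R : Subgroup P) (_ : R.Normal) (z' u' : P),
      (((u' : HC z u) : Subgroup.centralizer ({z} : Set G)) : G) = u ∧ Dat R z' u' := by
  have hfin := h.fin
  have hfact : Fact (Nat.Prime 2) := ⟨Nat.prime_two⟩
  have hvne := type_ne hv
  have hH := card_HC h hu hv
  have hker : IsPGroup 2 (rho u pi).ker := by
    have e : Nat.card (rho u pi).ker = 2 ^ 24 := by
      have e : Nat.card ((rho u pi).comp (⊤ : Subgroup (HC z u)).subtype).ker = Nat.card (rho u pi).ker := by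
        refine Nat.card_congr ⟨fun r => ⟨(r : (⊤ : Subgroup (HC z u))), r.2⟩, fun r => ⟨⟨r, trivial⟩, r.2⟩,
          fun _ => rfl, fun _ => rfl⟩
      rw [← e, Nat.card_congr (kerEquiv h hu ⊤ le_top), card_fix h hvne]
    exact IsPGroup.of_card e
  obtain ⟨P, hP⟩ := hker.exists_le_sylow
  have hcP : Nat.card P = 2 ^ 42 := by
    rw [P.card_eq_multiplicity, hH]
    congr 1
    rw [Nat.factorization_mul (by norm_num) (by norm_num), Finsupp.add_apply, Nat.Prime.factorization_pow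
      Nat.prime_two, Finsupp.single_eq_same, Nat.factorization_eq_zero_of_not_dvd (by norm_num)]
  let σ : P →* Co1 := (rho u pi).comp (P : Subgroup (HC z u)).subtype
  have hσ : ∀ c : P, σ c = pi (c : HC z u) := fun c => rfl
  have hzu : z * u = u * z := (h.large.comm_z u hu).symm
  let z0 : HC z u := ⟨⟨z, Subgroup.mem_centralizer_singleton_iff.2 rfl⟩, hzu⟩
  let u0 : HC z u := ⟨⟨u, Subgroup.mem_centralizer_singleton_iff.2 hzu.symm⟩, rfl⟩
  have hz0 : z0 ∈ (P : Subgroup (HC z u)) := hP ((h.pi_eq_one _).2 h.large.z_mem)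
  have hu0 : u0 ∈ (P : Subgroup (HC z u)) := hP ((h.pi_eq_one _).2 hu)
  -- the coercion
  let j : P → G := fun c => ((c : HC z u) : Subgroup.centralizer ({z} : Set G))
  have hj : Function.Injective j := fun a b hab => Subtype.ext (Subtype.ext (Subtype.ext hab))
  have jm : ∀ a b, j (a * b) = j a * j b := fun _ _ => rfl
  have jQ : ∀ a : P, a ∈ σ.ker ↔ j a ∈ Q := fun a => h.pi_eq_one _
  have ju : ∀ a : P, j a * u = u * j a := fun a => a.1.2
  have jz : ∀ a : P, j a * z = z * j a := fun a => Subgroup.mem_centralizer_singleton_iff.1 a.1.1.2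
  have jinv : ∀ a, j a⁻¹ = (j a)⁻¹ := fun _ => rfl
  -- lifts of elements of the hyperplane
  have lift : ∀ w : L2, bf (eta u) w = 0 → ∃ r : P, r ∈ σ.ker ∧ eta (j r) = w := by
    intro w hw
    obtain ⟨q, hq, rfl⟩ := h.eta_surj w
    have e : u * q = q * u := (h.comm_iff hu hq).2 hw
    exact ⟨⟨⟨⟨q, Subgroup.mem_centralizer_singleton_iff.2 (h.large.comm_z q hq)⟩, e.symm⟩,
      hP ((h.pi_eq_one _).2 hq)⟩, (h.pi_eq_one _).2 hq, rfl⟩
  have perp : ∀ r : P, r ∈ σ.ker → bf (eta u) (eta (j r)) = 0 := fun r hr =>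
    (h.comm_iff hu ((jQ r).1 hr)).1 (ju r).symm
  have hyper : ∀ d : L2, (∀ w, bf (eta u) w = 0 → bf d w = 0) → d = 0 ∨ d = eta u := by
    intro d hd
    exact Cfsg.Agent.H658.TwoB.perp_of_hyper bL (fun u hu => bf_nondeg fun v => hu v) hvne hd
  refine ⟨P, σ.ker, inferInstance, ⟨z0, hz0⟩, ⟨u0, hu0⟩, rfl, ?_⟩
  refine
    { zR := (jQ _).2 h.large.z_mem
      uR := (jQ _).2 hu
      zc := fun g => hj (jz g).symm
      uc := fun g => hj (ju g).symm
      z2 := hj h.large.z_sq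
      u2 := hj ((h.sq_one hu).2 (Cfsg.Agent.H658.TwoB.qf_two hv))
      z1 := fun e => h.large.z_ne (congrArg j e)
      u1 := fun e => hvne (by rw [show u = 1 from congrArg j e, h.eta_one])
      uz := fun e => hvne (by rw [show u = z from congrArg j e, h.eta_z])
      comm := ?_
      cen := ?_
      card := ?_
      st := ?_ }
  · intro a ha b hb
    rcases h.large.comm _ ((jQ a).1 ha) _ ((jQ b).1 hb) with e | e
    · exact Or.inl (hj e)
    · right
      apply hj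
      show j a * j b = z * (j b * j a)
      rw [e, mul_assoc, jz, ← mul_assoc, jz, mul_assoc]
  · intro a ha hab
    have h1 : eta (j a) = 0 ∨ eta (j a) = eta u := by
      apply hyper
      intro w hw
      obtain ⟨r, hr, rfl⟩ := lift w hw
      exact (h.comm_iff ((jQ a).1 ha) ((jQ r).1 hr)).1 (congrArg j (hab r hr))
    rcases h1 with h1 | h1
    · rcases (h.eta_zero _ ((jQ a).1 ha)).1 h1 with h2 | h2
      · exact Or.inl (hj h2)
      · exact Or.inr (Or.inl (hj h2))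
    · rcases (h.eta_eq ((jQ a).1 ha) hu).1 h1 with h2 | h2
      · exact Or.inr (Or.inr (Or.inl (hj h2)))
      · refine Or.inr (Or.inr (Or.inr (hj ?_)))
        show j a = z * u
        rw [h2, hzu]
  · rw [Nat.card_congr (kerEquiv h hu P hP), card_fix h hvne]
  · intro f fz fu
    have hsq : ∀ r : σ.ker, f r = 1 ∨ f r = -1 := by
      intro r
      have h1 : f (r * r) = 1 := by
        rcases h.large.sq _ ((jQ r).1 r.2) with e | e
        · have : r * r = 1 := Subtype.ext (hj e)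
          rw [this, map_one]
        · have : r * r = ⟨⟨z0, hz0⟩, (jQ _).2 h.large.z_mem⟩ := Subtype.ext (hj e)
          rw [this, fz]
      rw [map_mul] at h1
      have h2 : ((f r : ℂˣ) : ℂ) * (f r : ℂˣ) = 1 := by rw [← Units.val_mul, h1, Units.val_one]
      rcases mul_self_eq_one_iff.1 h2 with h3 | h3
      · exact Or.inl (Units.ext h3)
      · exact Or.inr (Units.ext (by rw [h3, Units.val_neg, Units.val_one]))
    have hne : (1 : ℂˣ) ≠ -1 := by
      intro e
      have h2 := congrArg Units.val e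
      rw [Units.val_neg, Units.val_one] at h2
      norm_num at h2
    have heta : ∀ r s : σ.ker, eta (j r) = eta (j s) → f r = f s := by
      intro r s e
      rcases (h.eta_eq ((jQ r).1 r.2) ((jQ s).1 s.2)).1 e with h1 | h1
      · have : r = s := Subtype.ext (hj h1)
        rw [this]
      · have : r = s * ⟨⟨z0, hz0⟩, (jQ _).2 h.large.z_mem⟩ := Subtype.ext (hj h1)
        rw [this, map_mul, fz, mul_one]
    classical
    choose! lf hlf hle using lift
    let g : L2 → ZMod 2 := fun w => if hw : bf (eta u) w = 0 then (if f ⟨lf w, hlf w hw⟩ = 1 then 0 else 1) else 0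
    have hg : ∀ r : σ.ker, g (eta (j r)) = if f r = 1 then 0 else 1 := by
      intro r
      show (if hw : bf (eta u) (eta (j r)) = 0 then (if f ⟨lf (eta (j r)), hlf _ hw⟩ = 1 then (0 : ZMod 2) else 1)
        else 0) = _
      rw [dif_pos (perp r r.2), heta ⟨lf (eta (j r)), hlf _ (perp r r.2)⟩ r (hle _ (perp r r.2))]
    obtain ⟨x, hx⟩ := exists_of_perp (v := eta u) g (by
      intro a b ha hb
      have ea : a = eta (j (⟨lf a, hlf a ha⟩ : σ.ker)) := (hle a ha).symm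
      have eb : b = eta (j (⟨lf b, hlf b hb⟩ : σ.ker)) := (hle b hb).symm
      have h1 : a + b = eta (j ((⟨lf a, hlf a ha⟩ * ⟨lf b, hlf b hb⟩ : σ.ker) : P)) := by
        conv_lhs => rw [ea, eb]
        exact (h.eta_mul _ ((jQ _).1 (hlf a ha)) _ ((jQ _).1 (hlf b hb))).symm
      rw [h1, hg, map_mul]
      conv_rhs => rw [ea, eb, hg, hg]
      rcases hsq ⟨lf a, hlf a ha⟩ with e1 | e1 <;> rcases hsq ⟨lf b, hlf b hb⟩ with e2 | e2 <;> rw [e1, e2]
      · simp
      · simp [hne.symm]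
      · simp [hne.symm]
      · simp only [mul_neg, mul_one, neg_neg, if_true, hne.symm, if_false]
        exact (CharTwo.add_self_eq_zero (1 : ZMod 2)).symm)
    have hxr : ∀ r : σ.ker, bf x (eta (j r)) = if f r = 1 then 0 else 1 := by
      intro r
      rw [hx _ (perp r r.2), hg]
    have hb : bf x (eta u) = 1 := by
      have h1 := hxr ⟨⟨u0, hu0⟩, (jQ _).2 hu⟩
      rw [fu, if_neg hne.symm] at h1
      exact h1
    -- the image of the stabilizer
    let S0 : Subgroup P := stab σ.ker (fun r => (f r : ℂ))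
    have hS0 : ∀ s : P, s ∈ S0 → pi (s : HC z u) • x = x ∨ pi (s : HC z u) • x = x + eta u := by
      intro s hs
      have hs' : ∀ r : σ.ker, f (MulAut.conjNormal s r) = f r := fun r => Units.ext (mem_stab.1 hs r)
      have h1 : x + pi (s : HC z u) • x = 0 ∨ x + pi (s : HC z u) • x = eta u := by
        apply hyper
        intro w hw
        have hw' : bf (eta u) (pi ((s : HC z u) : Subgroup.centralizer ({z} : Set G))⁻¹ • w) = 0 := by
          have h2 := bf_smul1 (pi ((s : HC z u) : Subgroup.centralizer ({z} : Set G))) (eta u)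
            (pi ((s : HC z u) : Subgroup.centralizer ({z} : Set G))⁻¹ • w)
          rw [← mul_smul, ← map_mul, mul_inv_cancel, map_one, one_smul, ← h.eta_conj _ u hu] at h2
          have h3 : j s * u * (j s)⁻¹ = u := by rw [ju, mul_inv_cancel_right]
          have h4 : ((((s : HC z u) : Subgroup.centralizer ({z} : Set G)) : G)) * u *
            (((s : HC z u) : Subgroup.centralizer ({z} : Set G)) : G)⁻¹ = u := h3
          rw [h4, hw] at h2
          exact h2.symm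
        have e1 := hle _ hw'
        set r : σ.ker := ⟨lf (pi ((s : HC z u) : Subgroup.centralizer ({z} : Set G))⁻¹ • w), hlf _ hw'⟩ with hr
        have e2 : eta (j (MulAut.conjNormal s r : σ.ker)) = w := by
          rw [MulAut.conjNormal_apply, jm, jm, jinv]
          have h5 := h.eta_conj ((s : HC z u) : Subgroup.centralizer ({z} : Set G)) _ ((jQ _).1 r.2)
          rw [show j (r : P) = j (lf (pi ((s : HC z u) : Subgroup.centralizer ({z} : Set G))⁻¹ • w)) from rfl] at h5 ⊢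
          rw [e1, ← mul_smul, ← map_mul, mul_inv_cancel, map_one, one_smul] at h5
          exact h5
        have e3 := hxr (MulAut.conjNormal s r)
        rw [hs', e2] at e3
        have e4 := hxr r
        rw [show eta (j (r : P)) = _ from e1] at e4
        have e5 := bf_smul1 (pi ((s : HC z u) : Subgroup.centralizer ({z} : Set G))) x
            (pi ((s : HC z u) : Subgroup.centralizer ({z} : Set G))⁻¹ • w)
        rw [← mul_smul, ← map_mul, mul_inv_cancel, map_one, one_smul, e4, ← e3] at e5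
        rw [bf_add_left, e5, ← two_mul]
        exact zero_mul _
      rcases h1 with h1 | h1
      · left
        exact (Cfsg.Agent.MonsterU.Lam2.eq_of_add_eq_zero h1).symm
      · right
        rw [← h1, ← add_assoc, Cfsg.Agent.MonsterU.Lam2.add_self, zero_add]
    have t1 : IsPGroup 2 (S0.map σ) := (P.2.to_subgroup S0).map σ
    have t2 : ∀ t ∈ S0.map σ, t • eta u = eta u := by
      intro t ht
      obtain ⟨s, hs, rfl⟩ := Subgroup.mem_map.1 ht
      exact pi_fix h hu s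
    have t3 : ∀ t ∈ S0.map σ, t • x = x ∨ t • x = x + eta u := by
      intro t ht
      obtain ⟨s, hs, rfl⟩ := Subgroup.mem_map.1 ht
      exact hS0 s hs
    have hT := Cfsg.Agent.H692.TwoB.card_le (S0.map σ) t1 hv hb t2 t3
    have hS1 : Nat.card S0 ∣ 2 ^ 31 := by
      have h1 := Subgroup.card_eq_card_quotient_mul_card_subgroup (σ.comp S0.subtype).ker
      rw [Nat.card_congr (QuotientGroup.quotientKerEquivRange (σ.comp S0.subtype)).toEquiv] at h1
      have h2 : (σ.comp S0.subtype).range = S0.map σ := by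
        rw [MonoidHom.range_eq_map, ← Subgroup.map_map, ← MonoidHom.range_eq_map, Subgroup.range_subtype]
      have h3 : Nat.card (σ.comp S0.subtype).ker ∣ 2 ^ 24 := by
        have h4 : Nat.card σ.ker = 2 ^ 24 := by
          rw [Nat.card_congr (kerEquiv h hu P hP), card_fix h hvne]
        rw [← h4]
        let k : (σ.comp S0.subtype).ker →* σ.ker :=
          (S0.subtype.comp (σ.comp S0.subtype).ker.subtype).codRestrict σ.ker fun r => r.2
        exact Subgroup.card_dvd_of_injective k (fun a b hab =>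
          Subtype.ext (Subtype.ext (congrArg (Subtype.val : σ.ker → P) hab)))
      rw [h1, h2, show (2 : ℕ) ^ 31 = 2 ^ 7 * 2 ^ 24 by norm_num]
      exact Nat.mul_dvd_mul hT.2.1 h3
    have h5 := Subgroup.card_mul_index S0
    rw [hcP] at h5
    obtain ⟨k, hk⟩ := hS1
    show 2 ^ 11 ∣ S0.index
    refine ⟨k, ?_⟩
    have h6 : 0 < Nat.card S0 := Nat.card_pos
    apply Nat.eq_of_mul_eq_mul_left h6
    rw [h5, ← mul_assoc, mul_comm (Nat.card S0) (2 ^ 11), mul_assoc, ← hk]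
    norm_num

/-- **DIV11.** -/
theorem div11 [Finite G] (h : Chart Q z eta pi) {u : G} (hu : u ∈ Q) (hv : IsType 2 (eta u))
    {χ : Subgroup.centralizer ({u} : Set G) → ℂ} (hχ : IsCharacter (Subgroup.centralizer ({u} : Set G)) χ)
    (hχu : χ ⟨u, Subgroup.mem_centralizer_singleton_iff.2 rfl⟩ = -χ 1) {n : ℕ} (hn : χ 1 = n) : 2 ^ 11 ∣ n := by
  obtain ⟨P, R, hR, z', u', hu', D⟩ := exists_dat h hu hv
  let ι : P →* Subgroup.centralizer ({u} : Set G) :=
    (((Subgroup.centralizer ({z} : Set G)).subtype.comp (HC z u).subtype).comp P.subtype).codRestrict _ fun c =>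
      Subgroup.mem_centralizer_singleton_iff.2 (mem_HC.1 (c : HC z u).2)
  have h1 : IsCharacter P (fun x => χ (ι x)) := isCharacter_comp ι hχ
  refine Div.dvd_char D h1 ?_ ?_
  · show χ (ι u') = -χ (ι 1)
    rw [map_one, ← hχu]
    congr 1
    exact Subtype.ext hu'
  · show χ (ι 1) = n
    rw [map_one, hn]

/-- **DIV11 for irreducible characters.** -/
theorem div11_irr [Finite G] (h : Chart Q z eta pi) {u : G} (hu : u ∈ Q) (hv : IsType 2 (eta u))
    {χ : Subgroup.centralizer ({u} : Set G) → ℂ} (hχ : IsIrrCharacter (Subgroup.centralizer ({u} : Set G)) χ)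
    (hχu : χ ⟨u, Subgroup.mem_centralizer_singleton_iff.2 rfl⟩ ≠ χ 1) : 2 ^ 11 ∣ charDegree χ := by
  refine div11 h hu hv (isIrr_isCharacter hχ) ?_ (Div.deg_cast hχ)
  have h2 : u * u = 1 := (h.sq_one hu).2 (Cfsg.Agent.H658.TwoB.qf_two hv)
  rcases Div.central_pm hχ (z := ⟨u, Subgroup.mem_centralizer_singleton_iff.2 rfl⟩) (fun g => Subtype.ext
    (Subgroup.mem_centralizer_singleton_iff.1 g.2).symm) (Subtype.ext h2) with h3 | h3
  · exfalso
    apply hχu
    have h4 := h3 1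
    rwa [mul_one] at h4
  · have h4 := h3 1
    rwa [mul_one] at h4

end

end Cfsg.Agent.H630.TwoB.DivChart
end

private theorem dce_eaaa7ced9510 : _root_.True := by
  try have : _root_.True := by simp only [_root_.Cfsg.Agent.H630.TwoB.Div.stab.congr_simp]
  exact _root_.True.intro
end
end
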